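import Cfsg.Agent.Lib.Recog.FiFourQuad.Tables
import Cfsg.Agent.Lib.Recog.FiFour.Aut.Moved

set_option autoImplicit false
set_option maxRecDepth 100000
set_option maxHeartbeats 0
set_option Elab.async false

/-! Kernel checks on all points: the members commuting with the product and with one, two and three of the four
(owner: helper2). -/

namespace CfsgLib.Recog.FiFourQuad

open CfsgLib.Recog.BitPerm CfsgLib.Recog.FiFour CfsgLib.Recog.FiFour.Aut CfsgLib.Recog.FiTypes

/-- The points of the standard four. -/
noncomputable def basePt (j : ℕ) : ℕ := pnt (4 * tBase + j)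

/-- The first `k` of the standard points. -/
noncomputable def baseSet (k : ℕ) : ℕ := allSet basePt k

/-- Words fixing the first `k` standard points. -/
def levelW : ℕ → List (List ℕ)
  | 1 => [[0], [1], [2], [3], [4], [5], [6], [7], [8], [9], [11]]
  | 2 => [[0], [2], [3], [4], [5], [6], [7], [8], [9], [11], gW.getD 9 [], gW.getD 12 []]
  | _ => [[0], [2], [4], [5], [6], [7], [8], [9], [11], eFour]

/-- The rounds. -/
def levelR : ℕ → ℕ
  | 1 => 9
  | 2 => 3
  | _ => 5

/-- The size of the orbit. -/
def levelN : ℕ → ℕ
  | 1 => 31671
  | 2 => 3510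
  | _ => 693

/-- The orbit of the next standard point. -/
noncomputable def levelOrbit (k : ℕ) : ℕ := orbitSet net (levelW k) (basePt k) (levelR k)

/-- The letters of the standard four. -/
def baseLetter (j : ℕ) : ℕ := [11, 0, 2, 4].getD j 0

/-- Points moved by one of the first `k` letters. -/
noncomputable def baseMoved (k : ℕ) : ℕ :=
  Nat.rec 0 (fun j D => Nat.lor D (movedB 19 net [baseLetter j])) k

theorem fix_one : ((levelW 1).all fun w => (List.range 1).all fun j => mapsOK net w (basePt j) (basePt j)) = true := by
  decide +kernel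

theorem fix_two : ((levelW 2).all fun w => (List.range 2).all fun j => mapsOK net w (basePt j) (basePt j)) = true := by
  decide +kernel

theorem fix_three : ((levelW 3).all fun w => (List.range 3).all fun j => mapsOK net w (basePt j) (basePt j)) = true := by
  decide +kernel

theorem cover_one : Nat.beq (Nat.lor (Nat.lor (baseMoved 1) (baseSet 1)) (levelOrbit 1)) (2 ^ numPts - 1) = true := by
  unfold numPts; decide +kernel

theorem cover_two : Nat.beq (Nat.lor (Nat.lor (baseMoved 2) (baseSet 2)) (levelOrbit 2)) (2 ^ numPts - 1) = true := by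
  unfold numPts; decide +kernel

theorem cover_three : Nat.beq (Nat.lor (Nat.lor (baseMoved 3) (baseSet 3)) (levelOrbit 3)) (2 ^ numPts - 1) = true := by
  unfold numPts; decide +kernel

theorem count_one : Nat.ble (levelN 1) (bitCountBlocks (levelOrbit 1) 1199) = true := by decide +kernel

theorem count_two : Nat.ble (levelN 2) (bitCountBlocks (levelOrbit 2) 1199) = true := by decide +kernel

theorem count_three : Nat.ble (levelN 3) (bitCountBlocks (levelOrbit 3) 1199) = true := by decide +kernel

theorem z_cover : Nat.beq (Nat.lor (movedB 19 net (seqW zSeq)) (allSet pnt 504)) (2 ^ numPts - 1) = true := by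
  unfold numPts; decide +kernel

theorem pos_a : Nat.beq (Nat.lor (Nat.lor (movedB 19 net [11]) (movedB 19 net (seqW zSeq))) (movedB 19 net [0]))
    (Nat.lor (movedB 19 net [11]) (movedB 19 net (seqW zSeq))) = true := by
  decide +kernel

theorem pos_c : Nat.beq (Nat.lor (Nat.lor (movedB 19 net [11]) (movedB 19 net (seqW zSeq))) (movedB 19 net [2]))
    (Nat.lor (movedB 19 net [11]) (movedB 19 net (seqW zSeq))) = true := by
  decide +kernel

theorem pos_e : Nat.beq (Nat.lor (Nat.lor (movedB 19 net [11]) (movedB 19 net (seqW zSeq))) (movedB 19 net [4]))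
    (Nat.lor (movedB 19 net [11]) (movedB 19 net (seqW zSeq))) = true := by
  decide +kernel

theorem base_small : (List.range 4).all (fun j => Nat.blt (4 * tBase + j) 504 &&
    Nat.beq (4 * tBase + j) (lpi (baseLetter j))) = true := by
  decide +kernel

end CfsgLib.Recog.FiFourQuad
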