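import Cfsg.Agent.Lib.Recog.FiFourQuad.Tables
import Cfsg.Agent.Lib.Known.U43Mult.Points

set_option autoImplicit false
set_option maxRecDepth 100000
set_option maxHeartbeats 0
set_option Elab.async false

/-! Kernel checks of the kernel and the image of the action on the quadruples (owner: helper2). -/

namespace CfsgLib.Recog.FiFourQuad

open CfsgLib.Recog.BitPerm CfsgLib.Recog.FiTypes CfsgLib.Schur.Cert
open CfsgLib.ThreeTrans.CosetIndex (forallFrom forallFrom_elim)
open CfsgLib.Known.U43Mult (gperm pt ix Ix pos)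

/-- The isometry outside, as a matrix. -/
def xM : Matrix Ix Ix (ZMod 3) := Matrix.of fun i j => ((xMat.getD (6 * pos i + pos j) 0 : ℕ) : ZMod 3)

theorem seq_gens : ((zSeq :: oSeq :: aSeq :: bSeq :: xSeq :: qSeq).all fun sq =>
    sq.all (fun g => Nat.blt g 13) && Nat.beq ((seqW sq).length % 2) 0) = true := by
  decide +kernel

theorem psi_kernel : ((oSeq :: zSeq :: qSeq).all fun sq => psiOK sq fun t => t) = true := by decide +kernel

theorem psi_a : psiOK aSeq (fun t => pgetN (gperm.getD 0 0) t) = true := by decide +kernel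

theorem psi_b : psiOK bSeq (fun t => pgetN (gperm.getD 1 0) t) = true := by decide +kernel

theorem psi_x : ∀ t : Fin 126, Nat.blt (evS xSeq (4 * t)) 504 = true ∧
    psiT xSeq t = ix (Matrix.mulVec xM (pt t)) := by
  decide +kernel

theorem zz_ok : sameSeq (zSeq ++ zSeq) [] = true ∧ differAt zSeq [] (lpi zMove) = true ∧
    sameSeq (oSeq ++ oSeq ++ oSeq) [] = true ∧ Nat.blt zMove 12 = true := by
  decide +kernel

theorem q_sq : (qSeq.all fun a => sameSeq (a ++ a) [] && sameSeq (zSeq ++ a) (a ++ zSeq)) = true := by decide +kernel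

theorem q_comm : forallFrom (fun i => forallFrom (fun k => Nat.ble k i || (cond (Nat.beq k (i + 6))
    (sameSeq (qSeq.getD i [] ++ qSeq.getD k []) (zSeq ++ qSeq.getD k [] ++ qSeq.getD i []))
    (sameSeq (qSeq.getD i [] ++ qSeq.getD k []) (qSeq.getD k [] ++ qSeq.getD i [])))) 0 12) 0 12 = true := by
  decide +kernel

theorem q_pairing : (Nat.beq qSeq.length 12 && (qSeq.all fun a =>
    forallFrom (fun j => Nat.blt (evS a (4 * tBase + j)) numP) 0 4)) = true := by
  decide +kernel

theorem nc_ok : forallFrom (fun k => Nat.blt (ncData.getD k (0, 0, 0)).1 12 &&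
    (Nat.blt (ncData.getD k (0, 0, 0)).2.1 12 && (Nat.blt (ncData.getD k (0, 0, 0)).2.2 12 &&
    (differAt (ncSeq.getD k [] ++ qSeq.getD (ncData.getD k (0, 0, 0)).1 [])
      (qSeq.getD (ncData.getD k (0, 0, 0)).1 [] ++ ncSeq.getD k []) (lpi (ncData.getD k (0, 0, 0)).2.1) &&
    differAt (ncSeq.getD k [] ++ qSeq.getD (ncData.getD k (0, 0, 0)).1 [])
      (zSeq ++ qSeq.getD (ncData.getD k (0, 0, 0)).1 [] ++ ncSeq.getD k []) (lpi (ncData.getD k (0, 0, 0)).2.2))))) 0 5 =
    true := by
  decide +kernel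

end CfsgLib.Recog.FiFourQuad
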