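import Cfsg.Agent.Lib.Recog.FiFourQuad.Tables
import Cfsg.Agent.Lib.Recog.FiFour.Bound

set_option autoImplicit false
set_option maxRecDepth 100000
set_option maxHeartbeats 0
set_option Elab.async false

/-! Kernel checks of the tables (owner: helper2). -/

namespace CfsgLib.Recog.FiFourQuad

open CfsgLib.Recog.BitPerm CfsgLib.Recog.FiTypes CfsgLib.Schur.Cert
open CfsgLib.ThreeTrans.CosetIndex (forallFrom forallFrom_elim relWords)
open CfsgLib.Recog.FiFour (gens24)

theorem sig_small : sigOK 0 = true ∧ sigOK 1 = true ∧ sigOK 2 = true ∧ sigOK 3 = true ∧ sigOK 4 = true ∧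
    sigOK 5 = true ∧ sigOK 6 = true ∧ sigOK 7 = true ∧ sigOK 8 = true ∧ sigOK 9 = true ∧ sigOK 10 = true := by
  refine ⟨?_, ?_, ?_, ?_, ?_, ?_, ?_, ?_, ?_, ?_, ?_⟩ <;> decide +kernel

theorem sig_a : sigOK 11 = true := by decide +kernel

theorem sig_b : sigOK 12 = true := by decide +kernel

theorem size_ok : (Nat.ble 504 numP && (Nat.beq gW.length 13 && forallFrom (fun i => Nat.blt (pnt i) 306936) 0 numP)) = true := by
  decide +kernel

theorem hW_ok : forallFrom (fun x => mapsOK FiFour.net (hW.getD x []) 0 (pnt (lpi x)) && Nat.blt (lpi x) numP) 0 12 =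
    true := by
  decide +kernel

theorem hW_edges : ([(11, 10), (10, 0), (0, 1), (1, 2), (2, 3), (3, 4), (4, 5), (5, 6), (6, 9), (3, 7), (7, 8)] :
    List (ℕ × ℕ)).all (fun e => (hW.getD e.2 [] == [e.1, e.2] ++ hW.getD e.1 []) &&
      ((relWords Cfsg.Spor.Fi24.edges Cfsg.Spor.Fi24.extra gens24).contains [e.1, e.2, e.1, e.2, e.1, e.2] ||
        (relWords Cfsg.Spor.Fi24.edges Cfsg.Spor.Fi24.extra gens24).contains [e.2, e.1, e.2, e.1, e.2, e.1])) = true := by
  decide +kernel

theorem hW_base : (hW.getD 11 [] == []) = true := by decide +kernel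

theorem quad_base : (Nat.beq (4 * tBase) (lpi 11) && (Nat.beq (4 * tBase + 1) (lpi 0) &&
    (Nat.beq (4 * tBase + 2) (lpi 2) && (Nat.beq (4 * tBase + 3) (lpi 4) && Nat.beq (pnt (lpi 11)) 0)))) = true := by
  decide +kernel

theorem distinct_ok : CfsgLib.Schur.Cert.distinctOK ((List.range 504).map pnt) KeyTree.leaf = true := by decide +kernel

theorem gen_z : forallFrom (fun g => sameSeq ([g] ++ zSeq) (zSeq ++ [g])) 0 13 = true := by decide +kernel

theorem gen_sq : forallFrom (fun g => sameSeq [g, g] []) 0 13 = true := by decide +kernel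

theorem swaps_ok : forallFrom (fun j => Nat.beq (evS (swaps.getD j []) (4 * tBase)) (4 * tBase + j) &&
    (((swaps.getD j []).all fun g => Nat.blt g 13) && forallFrom (fun k =>
      Nat.beq (evS (swaps.getD j []) (4 * tBase + k) / 4) tBase) 0 4)) 0 4 = true := by
  decide +kernel

theorem tree_ok : forallFrom (fun t => ((tree.getD t []).all fun g => Nat.blt g 13) && forallFrom (fun j =>
    Nat.beq (evS (tree.getD t []) (4 * tBase + j)) (4 * t + j)) 0 4) 0 126 = true := by
  decide +kernel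

theorem wit_ok : (witData.all fun d => Nat.blt d.2.1 13 && ((d.1.all fun g => Nat.blt g 13) &&
    (gW.getD d.2.1 [] == [d.2.2] && (Nat.blt d.2.2 12 && (Nat.blt (evS d.1 (lpi d.2.2)) 504 &&
      Nat.beq (evS [0] (evS d.1 (lpi d.2.2))) (evS d.1 (lpi d.2.2))))))) = true := by
  decide +kernel

theorem wit_cover : forallFrom (fun i => Nat.beq (i / 4) tBase ||
    witData.any fun d => Nat.blt (evS (d.1 ++ [d.2.1] ++ d.1.reverse) i) numP &&
      !Nat.beq (pnt (evS (d.1 ++ [d.2.1] ++ d.1.reverse) i)) (pnt i)) 0 504 = true := by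
  decide +kernel

end CfsgLib.Recog.FiFourQuad
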