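import Cfsg.Agent.Lib.Recog.FiFourQuad.CheckTables
import Cfsg.Agent.Lib.Recog.FiTypes.Fi24Class

set_option autoImplicit false
set_option maxRecDepth 100000
set_option linter.style.haveILetI false

/-!
Sequences of the thirteen generators as elements of Fi24, the transpositions of the points, and the comparison of
elements by the tables (owner: helper2).
-/

namespace CfsgLib.Recog.FiFourQuad

open Cfsg CfsgLib.Recog.BitPerm CfsgLib.Recog.FiFour CfsgLib.Recog.SporBound CfsgLib.Recog.FiTypes
open CfsgLib.ThreeTrans.CosetIndex (forallFrom forallFrom_elim)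
open CfsgLib.Recog.FiFour.Aut (comm_l_iff comm_conj_iff conj_eq_of_pt stab_iff)

attribute [local instance] FiThree.finite_fi23' finite_fi24

local notation "G" => Cfsg.Spor.Fi24

/-- The element of a sequence. -/
noncomputable def elt (sq : List ℕ) : G := FiFour.word (seqW sq)

/-- Every generator of the sequence is one of the thirteen. -/
def Fits (sq : List ℕ) : Prop := ∀ g ∈ sq, g < 13

theorem fits_of_all {sq : List ℕ} (h : (sq.all fun g => Nat.blt g 13) = true) : Fits sq :=
  fun g hg => by simpa [Nat.blt_eq] using List.all_eq_true.1 h g hg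

theorem elt_append (s t : List ℕ) : elt (s ++ t) = elt s * elt t := by
  rw [elt, elt, elt, seqW, List.flatMap_append, FiFour.word_append]; rfl

theorem elt_nil : elt [] = 1 := rfl

theorem elt_cons (g : ℕ) (s : List ℕ) : elt (g :: s) = elt [g] * elt s := elt_append [g] s

theorem elt_single (g : ℕ) : elt [g] = FiFour.word (gW.getD g []) := by
  rw [elt, seqW]; simp

theorem sig_ok {g : ℕ} (hg : g < 13) : sigOK g = true := by
  obtain ⟨h0, h1, h2, h3, h4, h5, h6, h7, h8, h9, h10⟩ := sig_small
  interval_cases g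
  exacts [h0, h1, h2, h3, h4, h5, h6, h7, h8, h9, h10, sig_a, sig_b]

theorem pnt_lt {i : ℕ} (hi : i < numP) : pnt i < 306936 := by
  have h := size_ok
  simp only [Bool.and_eq_true] at h
  exact Nat.le_of_ble_eq_true (forallFrom_elim h.2.2 (Nat.zero_le i) (by omega))

theorem le_numP : 504 ≤ numP := by decide +kernel

theorem wordPerm_lt (w : List ℕ) {c : ℕ} (hc : c < 2 ^ 19) : wordPerm net w c < 2 ^ 19 := by
  by_contra h
  have h' := wordPerm_fix netValid w (Nat.not_lt.1 h)
  rw [(wordPerm net w).injective h'] at h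
  exact h hc

theorem act_sig {g i : ℕ} (hg : g < 13) (h : sig g i < numP) :
    i < numP ∧ act (elt [g]) (pnt i) = pnt (sig g i) := by
  have hi : i < numP := by
    by_contra hi
    rw [sig, show Nat.blt i numP = false from Bool.eq_false_iff.2 (by simp [Nat.blt_eq]; omega), cond_false] at h
    exact lt_irrefl _ h
  refine ⟨hi, ?_⟩
  have hp : pnt i < 2 ^ 19 := (pnt_lt hi).trans (by norm_num)
  have hq : pnt (sig g i) < 2 ^ 19 := (pnt_lt h).trans (by norm_num)
  rw [elt_single, act_word]
  refine Nat.eq_of_testBit_eq fun r => ?_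
  rcases Nat.lt_or_ge r 19 with hr | hr
  swap
  · rw [Nat.testBit_lt_two_pow (lt_of_lt_of_le (wordPerm_lt _ hp) (Nat.pow_le_pow_right (by omega) hr)),
      Nat.testBit_lt_two_pow (lt_of_lt_of_le hq (Nat.pow_le_pow_right (by omega) hr))]
  have h1 := forallFrom_elim (forallFrom_elim (sig_ok hg) (Nat.zero_le r) (by omega)) (Nat.zero_le i) (by omega)
  rw [show Nat.beq (sig g i) numP = false from Bool.eq_false_iff.2 fun e =>
    absurd (Nat.eq_of_beq_eq_true e) (by omega), Bool.false_or, Bool.and_eq_true, beq_iff_eq] at h1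
  rw [testBit_runWord netValid, testBit_plane] at h1
  have h2 := h1.2
  rw [decide_eq_true (wordPerm_lt _ hp), decide_eq_true hr] at h2
  simpa using h2

/-- A sequence acts on the known points as the tables say. -/
theorem act_elt : ∀ {sq : List ℕ}, Fits sq → ∀ {i : ℕ}, evS sq i < numP →
    i < numP ∧ act (elt sq) (pnt i) = pnt (evS sq i)
  | [], _, i, h => ⟨h, by rw [elt_nil, map_one]; rfl⟩
  | g :: sq, hf, i, h => by
    obtain ⟨h1, e1⟩ := act_sig (hf g List.mem_cons_self) (show sig g (evS sq i) < numP from h)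
    obtain ⟨h2, e2⟩ := act_elt (fun x hx => hf x (List.mem_cons_of_mem _ hx)) h1
    refine ⟨h2, ?_⟩
    rw [elt_cons, map_mul, Equiv.Perm.mul_apply, e2]
    exact e1

/-! ### The transpositions of the points -/

/-- The transposition of a point. -/
noncomputable def T (c : ℕ) : G :=
  if h : c < numPts then (exists_point h).choose * gg 11 * (exists_point h).choose⁻¹ else 1

theorem T_pt (g : G) : T (act g 0) = g * gg 11 * g⁻¹ := by
  rw [T, dif_pos (Aut.act_lt g)]
  exact conj_eq_of_pt (exists_point (Aut.act_lt g)).choose_spec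

theorem T_conj (g : G) {c : ℕ} (hc : c < numPts) : g * T c * g⁻¹ = T (act g c) := by
  obtain ⟨h, rfl⟩ := exists_point hc
  rw [← Equiv.Perm.mul_apply, ← map_mul, T_pt, T_pt]; group

theorem act_lt' (g : G) {c : ℕ} (hc : c < numPts) : act g c < numPts := by
  obtain ⟨h, rfl⟩ := exists_point hc
  rw [← Equiv.Perm.mul_apply, ← map_mul]; exact Aut.act_lt _

theorem T_zero : T 0 = gg 11 := by
  have h := T_pt 1
  rw [map_one act, inv_one, one_mul, mul_one] at h
  exact h

theorem commute_T {g : G} {c : ℕ} (hc : c < numPts) : Commute g (T c) ↔ act g c = c := by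
  obtain ⟨h, rfl⟩ := exists_point hc
  rw [T_pt]
  exact comm_conj_iff

theorem T_mem {c : ℕ} (hc : c < numPts) : T c ∈ D24 := by
  obtain ⟨h, rfl⟩ := exists_point hc
  rw [T_pt]
  exact isConj_iff.2 ⟨h, rfl⟩

theorem exists_T {d : G} (hd : d ∈ D24) : ∃ c < numPts, T c = d := by
  obtain ⟨h, rfl⟩ := isConj_iff.1 hd
  exact ⟨_, Aut.act_lt h, T_pt h⟩

theorem T_inj {c c' : ℕ} (hc : c < numPts) (hc' : c' < numPts) (e : T c = T c') : c = c' := by
  obtain ⟨g, rfl⟩ := exists_point hc
  obtain ⟨h, rfl⟩ := exists_point hc'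
  rw [T_pt, T_pt] at e
  have h1 : act (h⁻¹ * g) 0 = 0 := comm_l_iff.1 (by
    calc h⁻¹ * g * gg 11 = h⁻¹ * (g * gg 11 * g⁻¹) * g := by group
      _ = _ := by rw [e]; group)
  rw [map_mul, Equiv.Perm.mul_apply, map_inv, Equiv.Perm.inv_eq_iff_eq] at h1
  exact h1

theorem pnt_numPts {i : ℕ} (hi : i < numP) : pnt i < numPts := by rw [numPts_eq]; exact pnt_lt hi

/-- The conjugating element of a letter. -/
theorem gg_eq_conj {x : ℕ} (hx : x < 12) : gg x = FiFour.word (hW.getD x []) * gg 11 * (FiFour.word (hW.getD x []))⁻¹ := by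
  have h11 : gg 11 = FiFour.word (hW.getD 11 []) * gg 11 * (FiFour.word (hW.getD 11 []))⁻¹ := by
    rw [eq_of_beq hW_base]; simp [FiFour.word]
  have step : ∀ a b, (a, b) ∈ ([(11, 10), (10, 0), (0, 1), (1, 2), (2, 3), (3, 4), (4, 5), (5, 6), (6, 9), (3, 7),
      (7, 8)] : List (ℕ × ℕ)) → gg a = FiFour.word (hW.getD a []) * gg 11 * (FiFour.word (hW.getD a []))⁻¹ →
      gg b = FiFour.word (hW.getD b []) * gg 11 * (FiFour.word (hW.getD b []))⁻¹ := by
    intro a b he h
    have hc := List.all_eq_true.1 hW_edges _ he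
    rw [Bool.and_eq_true, Bool.or_eq_true] at hc
    obtain ⟨hw, hbr⟩ := hc
    have e : gg a * gg b * gg a = gg b * gg a * gg b := by
      rcases hbr with hbr | hbr
      · exact braid_of_rel hbr
      · exact (braid_of_rel hbr).symm
    have hb : gg b = gg a * gg b * gg a * (gg a * gg b)⁻¹ := by
      rw [e, mul_inv_rev, inv_eq_of_mul_eq_one_right (gg_sq a), inv_eq_of_mul_eq_one_right (gg_sq b)]
      calc gg b = gg b * (gg a * (gg b * gg b) * gg a) := by rw [gg_sq, mul_one, gg_sq, mul_one]
        _ = _ := by group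
    rw [eq_of_beq hw, FiFour.word_append,
      show FiFour.word [a, b] = gg a * gg b by simp [FiFour.word]]
    conv_lhs => rw [hb, h]
    conv_rhs => rw [h]
    group
  have e10 := step 11 10 (by simp) h11
  have e0 := step 10 0 (by simp) e10
  have e1 := step 0 1 (by simp) e0
  have e2 := step 1 2 (by simp) e1
  have e3 := step 2 3 (by simp) e2
  have e4 := step 3 4 (by simp) e3
  have e5 := step 4 5 (by simp) e4
  have e6 := step 5 6 (by simp) e5
  have e9 := step 6 9 (by simp) e6
  have e7 := step 3 7 (by simp) e3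
  have e8 := step 7 8 (by simp) e7
  interval_cases x <;> assumption

theorem lpi_lt {x : ℕ} (hx : x < 12) : lpi x < numP := by
  have h := forallFrom_elim hW_ok (Nat.zero_le x) (by omega)
  rw [Bool.and_eq_true] at h
  exact Nat.le_of_ble_eq_true h.2

/-- A letter is the transposition of its point. -/
theorem gg_eq_T {x : ℕ} (hx : x < 12) : gg x = T (pnt (lpi x)) := by
  have h := forallFrom_elim hW_ok (Nat.zero_le x) (by omega)
  rw [Bool.and_eq_true] at h
  rw [← act_maps h.1, T_pt]
  exact gg_eq_conj hx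

theorem gg_big {x : ℕ} (hx : 12 ≤ x) : gg x = 1 := by
  show CfsgLib.ThreeTrans.CosetIndex.gen _ _ gens24 x = 1
  rw [CfsgLib.ThreeTrans.CosetIndex.gen, List.getElem?_eq_none (show gens24.length ≤ x from hx)]
  rfl

/-- An element fixing the points of the letters is trivial. -/
theorem eq_one_of_fix {g : G} (h : ∀ x < 12, act g (pnt (lpi x)) = pnt (lpi x)) : g = 1 := by
  have hc : g ∈ Subgroup.center G := by
    rw [Subgroup.mem_center_iff]
    intro y
    have hy : y ∈ Subgroup.centralizer ({g} : Set G) := by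
      refine (show (⊤ : Subgroup G) ≤ _ from ?_) (Subgroup.mem_top y)
      rw [← SporBound.closure_gen nodes24 (edges := Spor.Fi24.edges) (extra := Spor.Fi24.extra), Subgroup.closure_le]
      rintro _ ⟨x, rfl⟩
      rw [SetLike.mem_coe, Subgroup.mem_centralizer_singleton_iff]
      by_cases hx : x < 12
      · show gg x * g = g * gg x
        have := (commute_T (pnt_numPts (lpi_lt hx))).2 (h x hx)
        rw [← gg_eq_T hx] at this
        exact this.eq.symm
      · show gg x * g = g * gg x
        rw [gg_big (by omega), one_mul, mul_one]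
    exact Subgroup.mem_centralizer_singleton_iff.1 hy
  rwa [center24, Subgroup.mem_bot] at hc

theorem eq_of_sameSeq {s t : List ℕ} (hs : Fits s) (ht : Fits t) (h : sameSeq s t = true) : elt s = elt t := by
  refine (inv_mul_eq_one.1 (eq_one_of_fix (g := (elt t)⁻¹ * elt s) fun x hx => ?_)).symm
  have h1 := forallFrom_elim h (Nat.zero_le x) (by omega)
  simp only [agreeAt, Bool.and_eq_true] at h1
  obtain ⟨a, b, c⟩ := h1
  rw [map_mul, Equiv.Perm.mul_apply, (act_elt hs (Nat.le_of_ble_eq_true a)).2, Nat.eq_of_beq_eq_true c,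
    ← (act_elt ht (Nat.le_of_ble_eq_true b)).2, ← Equiv.Perm.mul_apply, ← map_mul, inv_mul_cancel, map_one]
  rfl

theorem ne_of_differAt {s t : List ℕ} (hs : Fits s) (ht : Fits t) {i : ℕ} (h : differAt s t i = true) :
    elt s ≠ elt t := by
  intro e
  simp only [differAt, Bool.and_eq_true, Bool.not_eq_true'] at h
  obtain ⟨a, b, c⟩ := h
  refine absurd (Nat.beq_refl (pnt (evS t i))) ?_
  rw [← (act_elt ht (Nat.le_of_ble_eq_true b)).2] at c ⊢
  rw [← (act_elt hs (Nat.le_of_ble_eq_true a)).2, e] at c
  rw [c]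
  exact Bool.false_ne_true

end CfsgLib.Recog.FiFourQuad
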