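import Cfsg.Agent.Lib.Recog.FiFourQuad.CheckStructure
import Cfsg.Agent.Lib.Known.U43Mult.Cover

set_option autoImplicit false
set_option maxRecDepth 100000
set_option maxHeartbeats 1000000

/-!
PSU(4, 3) on 126 points: the centraliser of the image is trivial, and the isometry of determinant minus one acts
outside the image (owner: helper2).
-/

namespace CfsgLib.Recog.FiFourQuad

open Cfsg CfsgLib.Schur.Cert CfsgLib.Known.U43Mult
open CfsgLib.Sporadic hiding pt
open Matrix

/-- The image of the simple group. -/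
noncomputable def simpleImage : Subgroup (Equiv.Perm (Fin 126)) := phi.range

theorem omega_le {g : Omega (ZMod 3) Qf} : omegaPerm g ∈ simpleImage := ⟨QuotientGroup.mk g, rfl⟩

theorem image_equiv : Nonempty (Mdl ≃* simpleImage) :=
  ⟨MonoidHom.ofInjective phi_injective⟩

theorem card_image : Nat.card simpleImage = 3265920 := by
  obtain ⟨e⟩ := image_equiv
  rw [← Nat.card_congr e.toEquiv, mdl_spec.2]

theorem image_simple : IsSimpleGroup simpleImage := by
  obtain ⟨e⟩ := image_equiv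
  haveI := mdl_spec.1
  exact MulEquiv.isSimpleGroup e.symm

theorem closure_image : Subgroup.closure ({phi (mgen 0), phi (mgen 1)} : Set (Equiv.Perm (Fin 126))) = simpleImage := by
  rw [simpleImage, MonoidHom.range_eq_map, ← chain_facts.1, MonoidHom.map_closure]
  congr 1
  ext p
  simp only [Set.mem_insert_iff, Set.mem_singleton_iff, Set.mem_image, Set.mem_Iio]
  constructor
  · rintro (rfl | rfl)
    exacts [⟨_, ⟨0, by norm_num, rfl⟩, rfl⟩, ⟨_, ⟨1, by norm_num, rfl⟩, rfl⟩]
  · rintro ⟨_, ⟨j, hj, rfl⟩, rfl⟩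
    interval_cases j
    exacts [Or.inl rfl, Or.inr rfl]

/-- A permutation commuting with the two generators is trivial. -/
theorem eq_one_of_commute {p : Equiv.Perm (Fin 126)} (ha : Commute p (phi (mgen 0))) (hb : Commute p (phi (mgen 1))) :
    p = 1 := by
  obtain ⟨hfix, hrest⟩ := base_check
  simp only [Bool.and_eq_true, List.all_eq_true, decide_eq_true_eq, List.any_eq_true, List.mem_range,
    Nat.beq_eq] at hrest
  obtain ⟨⟨⟨hdv, htv⟩, h00⟩, htrans⟩ := hrest
  have hall : ∀ w : Word, (∀ l ∈ w, l.1 < 2) → Commute p (omegaPerm (wval gen w)) := by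
    intro w hw
    induction w with
    | nil => simp [wval]
    | cons l w ih =>
      rw [wval_cons, map_mul]
      refine Commute.mul_right ?_ (ih fun y hy => hw y (List.mem_cons_of_mem _ hy))
      obtain ⟨j, s⟩ := l
      have hj : j < 2 := hw (j, s) List.mem_cons_self
      have hc : Commute p (omegaPerm (gen j)) := by
        interval_cases j
        exacts [ha, hb]
      cases s
      · simp only [lett, cond_false, map_inv]; exact hc.inv_right
      · simp only [lett, cond_true]; exact hc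
  have hcomm : ∀ w : Word, (∀ l ∈ w, l.1 < 2) → ∀ x : Fin 126,
      omegaPerm (wval gen w) (p x) = p (omegaPerm (wval gen w) x) := fun w hw x => by
    rw [← Equiv.Perm.mul_apply, ← Equiv.Perm.mul_apply, (hall w hw).eq]
  have h0 : p 0 = 0 := by
    refine hfix _ (List.all_eq_true.2 fun w hw => ?_)
    rw [Nat.beq_eq, omegaPerm_word w (hdv w hw), hcomm w (hdv w hw)]
    have h1 := h00 w hw
    rw [show (0 : ℕ) = ((0 : Fin 126) : ℕ) from rfl, omegaPerm_word w (hdv w hw)] at h1
    rw [Fin.ext h1]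
  refine Equiv.ext fun x => ?_
  obtain ⟨v, hv, hx⟩ := htrans x x.isLt
  have hwv : ∀ l ∈ winv (CfsgLib.Schur.Cert.treePath level0.table level0.table.size v), l.1 < 2 := fun l hl => by
    simp only [winv, List.mem_map, List.mem_reverse] at hl
    obtain ⟨l', hl', rfl⟩ := hl
    exact htv v hv l' hl'
  rw [show (0 : ℕ) = ((0 : Fin 126) : ℕ) from rfl, omegaPerm_word _ hwv] at hx
  rw [← Fin.ext hx, ← hcomm _ hwv, h0]
  rfl

/-! ### The isometry of determinant minus one -/

theorem xM_inv : xM.det = -1 := by decide +kernel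

theorem xM_keep : ∀ a b c d e f : ZMod 3, Qf (xM *ᵥ mk6 a b c d e f) = Qf (mk6 a b c d e f) := by
  intro a b
  fin_cases a <;> fin_cases b <;> decide +kernel

/-- The isometry. -/
noncomputable def xIso : Isom :=
  ⟨Matrix.GeneralLinearGroup.mk'' xM (by rw [xM_inv]; exact (isUnit_one.neg)), fun u _ =>
    forall_vec (P := fun u => Qf (xM *ᵥ u) = Qf u) xM_keep u⟩

theorem hom_commutator {A M : Type*} [Group A] [CommMonoid M] (d : A →* M) {g : A} (h : g ∈ commutator A) :
    d g = 1 := by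
  have hK : commutator A ≤ d.toHomUnits.ker := Abelianization.commutator_subset_ker _
  exact congrArg Units.val (MonoidHom.mem_ker.1 (hK h))

/-- The determinant of an isometry. -/
def detHom : Isom →* ZMod 3 :=
  (Matrix.detMonoidHom.comp (Units.coeHom _)).comp (Isom.subtype)

theorem det_omega {g : Isom} (h : g ∈ Omega (ZMod 3) Qf) :
    Matrix.det ((g : GL Ix (ZMod 3)) : Matrix Ix Ix (ZMod 3)) = 1 :=
  hom_commutator detHom h

/-- Signs. -/
def sgn (b : Bool) : ZMod 3 := bif b then 1 else 2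

/-- A point of the seven. -/
def seven (i : ℕ) : Fin 126 := ⟨bPts.getD i 0 % 126, Nat.mod_lt _ (by norm_num)⟩

theorem seven_signs : ∀ s0 s1 s2 s3 s4 s5 s : Bool,
    (∀ k : Ix, ((vCo.getD 0 0 : ℕ) : ZMod 3) * (sgn s0 * pt (seven 0) k) +
      ((vCo.getD 1 0 : ℕ) : ZMod 3) * (sgn s1 * pt (seven 1) k) +
      ((vCo.getD 2 0 : ℕ) : ZMod 3) * (sgn s2 * pt (seven 2) k) +
      ((vCo.getD 3 0 : ℕ) : ZMod 3) * (sgn s3 * pt (seven 3) k) +
      ((vCo.getD 4 0 : ℕ) : ZMod 3) * (sgn s4 * pt (seven 4) k) +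
      ((vCo.getD 5 0 : ℕ) : ZMod 3) * (sgn s5 * pt (seven 5) k) = sgn s * pt (seven 6) k) →
    s0 = s ∧ s1 = s ∧ s2 = s ∧ s3 = s ∧ s4 = s ∧ s5 = s := by
  decide +kernel

theorem seven_comb : ∀ k : Ix, pt (seven 6) k =
    ((vCo.getD 0 0 : ℕ) : ZMod 3) * pt (seven 0) k + ((vCo.getD 1 0 : ℕ) : ZMod 3) * pt (seven 1) k +
      ((vCo.getD 2 0 : ℕ) : ZMod 3) * pt (seven 2) k + ((vCo.getD 3 0 : ℕ) : ZMod 3) * pt (seven 3) k +
      ((vCo.getD 4 0 : ℕ) : ZMod 3) * pt (seven 4) k + ((vCo.getD 5 0 : ℕ) : ZMod 3) * pt (seven 5) k := by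
  decide +kernel

/-- A coordinate of a unit vector in the six points. -/
def unitCo (j : Ix) (i : ℕ) : ZMod 3 := (((eCo.getD (pos j) []).getD i 0 : ℕ) : ZMod 3)

theorem unit_comb : ∀ j k : Ix, (if k = j then (1 : ZMod 3) else 0) =
    unitCo j 0 * pt (seven 0) k + unitCo j 1 * pt (seven 1) k + unitCo j 2 * pt (seven 2) k +
      unitCo j 3 * pt (seven 3) k + unitCo j 4 * pt (seven 4) k + unitCo j 5 * pt (seven 5) k := by
  decide +kernel

/-- An isometry acting trivially on the points has determinant one. -/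
theorem det_of_trivial {h : Isom} (hh : ptPerm h = 1) :
    Matrix.det ((h : GL Ix (ZMod 3)) : Matrix Ix Ix (ZMod 3)) = 1 := by
  set A := ((h : GL Ix (ZMod 3)) : Matrix Ix Ix (ZMod 3))
  have hs : ∀ i, ∃ s : Bool, A *ᵥ pt (seven i) = sgn s • pt (seven i) := by
    intro i
    have e : ix (A *ᵥ pt (seven i)) = seven i :=
      congrArg Fin.val (show ptPerm h (seven i) = seven i by rw [hh]; rfl)
    obtain ⟨-, -, h3⟩ := vec_spec _ ((isom_apply h (pt (seven i))).trans (pt_check (seven i)).1)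
    rw [e] at h3
    rcases h3 with h3 | h3
    · exact ⟨true, by rw [← h3]; simp [sgn]⟩
    · refine ⟨false, funext fun k => ?_⟩
      have h4 := congrFun h3 k
      simp only [Pi.neg_apply] at h4
      show (A *ᵥ pt (seven i)) k = 2 * pt (seven i) k
      rw [h4]
      generalize (A *ᵥ pt (seven i)) k = a
      revert a; decide
  obtain ⟨s0, h0⟩ := hs 0
  obtain ⟨s1, h1⟩ := hs 1
  obtain ⟨s2, h2⟩ := hs 2
  obtain ⟨s3, h3⟩ := hs 3
  obtain ⟨s4, h4⟩ := hs 4
  obtain ⟨s5, h5⟩ := hs 5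
  obtain ⟨s, h6⟩ := hs 6
  have lin : ∀ (c0 c1 c2 c3 c4 c5 : ZMod 3) (k : Ix),
      (A *ᵥ (c0 • pt (seven 0) + c1 • pt (seven 1) + c2 • pt (seven 2) + c3 • pt (seven 3) + c4 • pt (seven 4) +
        c5 • pt (seven 5))) k =
      c0 * (sgn s0 * pt (seven 0) k) + c1 * (sgn s1 * pt (seven 1) k) + c2 * (sgn s2 * pt (seven 2) k) +
        c3 * (sgn s3 * pt (seven 3) k) + c4 * (sgn s4 * pt (seven 4) k) + c5 * (sgn s5 * pt (seven 5) k) := by
    intro c0 c1 c2 c3 c4 c5 k
    simp only [Matrix.mulVec_add, Matrix.mulVec_smul, h0, h1, h2, h3, h4, h5, Pi.add_apply, Pi.smul_apply,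
      smul_eq_mul]
  obtain ⟨e0, e1, e2, e3, e4, e5⟩ := seven_signs s0 s1 s2 s3 s4 s5 s fun k => by
    have e := lin ((vCo.getD 0 0 : ℕ) : ZMod 3) ((vCo.getD 1 0 : ℕ) : ZMod 3) ((vCo.getD 2 0 : ℕ) : ZMod 3)
      ((vCo.getD 3 0 : ℕ) : ZMod 3) ((vCo.getD 4 0 : ℕ) : ZMod 3) ((vCo.getD 5 0 : ℕ) : ZMod 3) k
    rw [← e, show sgn s * pt (seven 6) k = (A *ᵥ pt (seven 6)) k by rw [h6]; rfl]
    congr 2
    funext k'
    simp only [Pi.add_apply, Pi.smul_apply, smul_eq_mul]
    exact (seven_comb k').symm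
  subst e0 e1 e2 e3 e4 e5
  have hA : A = sgn s5 • (1 : Matrix Ix Ix (ZMod 3)) := by
    ext k j
    have e := lin (unitCo j 0) (unitCo j 1) (unitCo j 2) (unitCo j 3) (unitCo j 4) (unitCo j 5) k
    have hu : (unitCo j 0 • pt (seven 0) + unitCo j 1 • pt (seven 1) + unitCo j 2 • pt (seven 2) +
        unitCo j 3 • pt (seven 3) + unitCo j 4 • pt (seven 4) + unitCo j 5 • pt (seven 5)) = Pi.single j 1 := by
      funext k'
      simp only [Pi.add_apply, Pi.smul_apply, smul_eq_mul, ← unit_comb j k', Pi.single_apply]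
    rw [hu, Matrix.mulVec_single_one] at e
    rw [show A k j = A.col j k from rfl, e, Matrix.smul_apply, Matrix.one_apply, unit_comb j k, smul_eq_mul]
    ring
  rw [hA, Matrix.det_smul, Matrix.det_one, mul_one, show Fintype.card Ix = 6 by decide]
  cases s5 <;> decide

theorem xPerm_notMem : ptPerm xIso ∉ simpleImage := by
  rintro ⟨m, hm⟩
  obtain ⟨g, rfl⟩ := QuotientGroup.mk_surjective m
  have h1 : ptPerm ((g : Isom)⁻¹ * xIso) = 1 := by
    rw [map_mul, map_inv, inv_mul_eq_one]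
    exact hm
  have h2 := det_of_trivial h1
  rw [Subgroup.coe_mul, Units.val_mul, Matrix.det_mul, Subgroup.coe_inv,
    show Matrix.det ((((g : Isom) : GL Ix (ZMod 3))⁻¹ : GL Ix (ZMod 3)) : Matrix Ix Ix (ZMod 3)) =
      Matrix.det ((((g : Isom)⁻¹ : Isom) : GL Ix (ZMod 3)) : Matrix Ix Ix (ZMod 3)) from rfl,
    det_omega (inv_mem g.2), one_mul] at h2
  rw [show ((xIso : GL Ix (ZMod 3)) : Matrix Ix Ix (ZMod 3)) = xM from rfl, xM_inv] at h2
  exact absurd h2 (by decide)

/-- The permutation of the isometry by the table. -/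
theorem xPerm_apply (t : Fin 126) : (ptPerm xIso t : ℕ) = ix (xM *ᵥ pt t) := rfl

end CfsgLib.Recog.FiFourQuad
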