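import Cfsg.Agent.Lib.Recog.FiFourQuad.Quads
import Cfsg.Agent.Lib.Recog.FiFourQuad.PointAction
import Cfsg.Agent.Lib.Recog.SporBound.Fi22Pair.Pairs

set_option autoImplicit false
set_option maxRecDepth 100000
set_option linter.style.haveILetI false

/-!
The kernel of the action on the quadruples inside the derived group: a group of order `2 ^ 13` of six hyperbolic
pairs, extended by an element of order three (owner: helper2).
-/

namespace CfsgLib.Recog.FiFourQuad

open Cfsg CfsgLib.Recog.BitPerm CfsgLib.Recog.FiFour CfsgLib.Recog.FiFour.Aut CfsgLib.Recog.FiTypes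
open CfsgLib.ThreeTrans.CosetIndex (forallFrom forallFrom_elim)
open CfsgLib.Known.U43Mult (phi mgen gperm rep_mgen ptPerm pt ix)
open CfsgLib.Schur.Cert (pgetN)
open CfsgLib.Recog.SporBound.Fi22Pair (Pairs hull hull_le_iff mem_hull)
open scoped commutatorElement

attribute [local instance] FiThree.finite_fi23' finite_fi24

local notation "G" => Cfsg.Spor.Fi24

/-- The centraliser of the product in the derived group. -/
noncomputable def CL : Subgroup G := parity.ker ⊓ Cz

theorem CL_le : CL ≤ Cz := inf_le_right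

theorem basePt_inj {i j : ℕ} (hi : i < 4) (hj : j < 4) (e : basePt i = basePt j) : i = j := by
  have := pnt_inj (base_idx hi).1 (base_idx hj).1 e
  omega

theorem l_notMem : gg 11 ∉ CL := fun h => by
  have h1 := MonoidHom.mem_ker.1 (Subgroup.mem_inf.1 h).1
  rw [parity_gg (by decide)] at h1
  exact absurd h1 (by decide)

/-- The fixing subgroup of the label of the standard four. -/
noncomputable def keep : Subgroup Cz :=
  (MulAction.stabilizer (Equiv.Perm (Fin 126)) (⟨tBase, by decide⟩ : Fin 126)).comap psi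

theorem mem_keep {g : Cz} : g ∈ keep ↔ psi g ⟨tBase, by decide⟩ = ⟨tBase, by decide⟩ := Iff.rfl

theorem exists_perm {g : Cz} (hg : g ∈ keep) (j : Fin 4) : ∃ k : Fin 4, act (g : G) (basePt j) = basePt k := by
  obtain ⟨k, hk, e⟩ := exists_idx (onFix_map g.2 (onFix_pnt (base_idx j.2).1))
  have h := psi_spec g (base_idx j.2).1 hk e.symm
  have hb : (⟨(4 * tBase + (j : ℕ)) / 4, by have := (base_idx j.2).1; omega⟩ : Fin 126) = ⟨tBase, by decide⟩ :=
    Fin.ext (show (4 * tBase + (j : ℕ)) / 4 = tBase by omega)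
  rw [hb, mem_keep.1 hg] at h
  simp only at h
  refine ⟨⟨k % 4, Nat.mod_lt _ (by omega)⟩, ?_⟩
  show act (g : G) (basePt j) = pnt (4 * tBase + k % 4)
  rw [show 4 * tBase + k % 4 = k by omega, e]; rfl

/-- The action on the standard four. -/
noncomputable def onBase (g : keep) (j : Fin 4) : Fin 4 := (exists_perm g.2 j).choose

theorem onBase_spec (g : keep) (j : Fin 4) : act ((g : Cz) : G) (basePt j) = basePt (onBase g j) :=
  (exists_perm g.2 j).choose_spec

theorem onBase_mul (g h : keep) (j : Fin 4) : onBase (g * h) j = onBase g (onBase h j) := by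
  refine Fin.ext (basePt_inj (onBase (g * h) j).2 (onBase g (onBase h j)).2 ?_)
  rw [← onBase_spec, ← onBase_spec, Subgroup.coe_mul, Subgroup.coe_mul, map_mul, Equiv.Perm.mul_apply, onBase_spec]

theorem onBase_one (j : Fin 4) : onBase 1 j = j := by
  refine Fin.ext (basePt_inj (onBase 1 j).2 j.2 ?_)
  rw [← onBase_spec, OneMemClass.coe_one, OneMemClass.coe_one, map_one]; rfl

/-- The hom to the permutations of the four. -/
noncomputable def sigma : keep →* Equiv.Perm (Fin 4) where
  toFun g :=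
    { toFun := onBase g
      invFun := onBase g⁻¹
      left_inv := fun j => by rw [← onBase_mul, inv_mul_cancel, onBase_one]
      right_inv := fun j => by rw [← onBase_mul, mul_inv_cancel, onBase_one] }
  map_one' := Equiv.ext onBase_one
  map_mul' g h := Equiv.ext fun j => onBase_mul g h j

theorem card_keep : Nat.card keep ≤ 24 * 106168320 := by
  classical
  have h1 : Nat.card sigma.ker ≤ Nat.card (stab 4) := Nat.card_le_card_of_injective
    (fun g : sigma.ker => (⟨((g : keep) : Cz), fun j hj => by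
      have e := onBase_spec (g : keep) ⟨j, hj⟩
      rwa [show onBase (g : keep) ⟨j, hj⟩ = ⟨j, hj⟩ from
        congrArg (fun p : Equiv.Perm (Fin 4) => p ⟨j, hj⟩) (MonoidHom.mem_ker.1 g.2)] at e⟩ : stab 4))
    fun a b e => Subtype.ext (Subtype.ext (Subtype.ext (congrArg (fun x : stab 4 => (x : G)) e)))
  rw [Subgroup.card_eq_card_quotient_mul_card_subgroup sigma.ker]
  refine Nat.mul_le_mul ?_ (h1.trans card_stab_four)
  rw [Nat.card_congr (QuotientGroup.quotientKerEquivRange sigma).toEquiv]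
  have h2 : Nat.card sigma.range ≤ Nat.card (Equiv.Perm (Fin 4)) := Subgroup.card_le_card_group _
  rwa [Nat.card_perm, Nat.card_fin] at h2

theorem card_Cz : Nat.card Cz ≤ 321052999680 := by
  classical
  rw [Subgroup.card_eq_card_quotient_mul_card_subgroup keep,
    show (321052999680 : ℕ) = 126 * (24 * 106168320) by norm_num]
  refine Nat.mul_le_mul ?_ card_keep
  have h : Nat.card (Cz ⧸ keep) ≤ Nat.card (Fin 126) :=
    Nat.card_le_card_of_injective (fun q => Quotient.liftOn' q (fun g => psi g ⟨tBase, by decide⟩) fun a b h => by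
      have h' := mem_keep.1 (QuotientGroup.leftRel_apply.1 h)
      rw [map_mul, map_inv, Equiv.Perm.mul_apply, Equiv.Perm.inv_eq_iff_eq] at h'
      exact h'.symm) (by
      intro a b
      induction a using QuotientGroup.induction_on with
      | _ a =>
        induction b using QuotientGroup.induction_on with
        | _ b =>
          intro e
          refine QuotientGroup.eq.2 (mem_keep.2 ?_)
          rw [map_mul, map_inv, Equiv.Perm.mul_apply, Equiv.Perm.inv_eq_iff_eq]
          exact (show psi a _ = psi b _ from e).symm)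
  rwa [Nat.card_fin] at h

theorem l_mem_Cz : gg 11 ∈ Cz := by
  have h := gen_mem (show 0 < 13 by omega)
  rwa [elt_single, show gW.getD 0 [] = [11] from rfl, FiFour.word_singleton] at h

theorem card_CL : Nat.card CL ≤ 160526499840 := by
  have hdvd := Subgroup.card_dvd_of_le CL_le
  have hne : Nat.card CL ≠ Nat.card Cz := fun e =>
    l_notMem (Subgroup.eq_of_le_of_card_ge CL_le e.ge ▸ l_mem_Cz)
  obtain ⟨m, hm⟩ := hdvd
  have := card_Cz
  have hpos : 0 < Nat.card CL := Nat.card_pos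
  have hpos' : 0 < Nat.card Cz := Nat.card_pos
  rcases Nat.lt_or_ge m 2 with h | h
  · exfalso
    rcases (show m = 0 ∨ m = 1 by omega) with rfl | rfl
    · rw [mul_zero] at hm; omega
    · exact hne (by rw [hm, mul_one])
  · have := Nat.mul_le_mul_left (Nat.card CL) h
    omega

theorem gW_letters : (gW.all fun w => w.all (· < 12)) = true := by decide +kernel

theorem seq_ok {sq : List ℕ} (h : sq ∈ zSeq :: oSeq :: aSeq :: bSeq :: xSeq :: qSeq) :
    Fits sq ∧ elt sq ∈ CL := by
  have h1 := List.all_eq_true.1 seq_gens sq h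
  rw [Bool.and_eq_true] at h1
  have hf := fits_of_all h1.1
  refine ⟨hf, Subgroup.mem_inf.2 ⟨?_, elt_mem hf⟩⟩
  refine parity_even ?_ (Nat.eq_of_beq_eq_true h1.2)
  rw [seqW, List.all_eq_true]
  intro x hx
  obtain ⟨g, hg, hxg⟩ := List.mem_flatMap.1 hx
  have hlen : gW.length = 13 := by decide +kernel
  rw [List.getD_eq_getElem _ _ (by rw [hlen]; exact hf g hg)] at hxg
  exact List.all_eq_true.1 (List.all_eq_true.1 gW_letters _ (List.getElem_mem _)) x hxg

theorem qSeq_length : qSeq.length = 12 := by decide +kernel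

theorem qSeq_mem {i : ℕ} (hi : i < 12) : qSeq.getD i [] ∈ qSeq := by
  rw [List.getD_eq_getElem _ _ (by rw [qSeq_length]; exact hi)]
  exact List.getElem_mem _

theorem qSeq_seq {i : ℕ} (hi : i < 12) : qSeq.getD i [] ∈ zSeq :: oSeq :: aSeq :: bSeq :: xSeq :: qSeq :=
  List.mem_cons_of_mem _ (List.mem_cons_of_mem _ (List.mem_cons_of_mem _ (List.mem_cons_of_mem _
    (List.mem_cons_of_mem _ (qSeq_mem hi)))))

/-- The action on the quadruples, on the centraliser in the derived group. -/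
noncomputable def psiL : CL →* Equiv.Perm (Fin 126) := psi.comp (Subgroup.inclusion CL_le)

/-- An element of a sequence in the centraliser in the derived group. -/
noncomputable def eL (sq : List ℕ) (h : sq ∈ zSeq :: oSeq :: aSeq :: bSeq :: xSeq :: qSeq) : CL :=
  ⟨elt sq, (seq_ok h).2⟩

theorem psiL_apply {sq : List ℕ} (h : sq ∈ zSeq :: oSeq :: aSeq :: bSeq :: xSeq :: qSeq) {f : ℕ → ℕ}
    (hf : psiOK sq f = true) (t : Fin 126) : (psiL (eL sq h) t : ℕ) = f t := by
  have h1 := forallFrom_elim hf (Nat.zero_le (t : ℕ)) (by omega)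
  rw [Bool.and_eq_true] at h1
  rw [← Nat.eq_of_beq_eq_true h1.2, ← psi_elt (seq_ok h).1 t h1.1]
  rfl

theorem psiL_kernel {sq : List ℕ} (h : sq ∈ zSeq :: oSeq :: aSeq :: bSeq :: xSeq :: qSeq)
    (h' : sq ∈ oSeq :: zSeq :: qSeq) : eL sq h ∈ psiL.ker :=
  MonoidHom.mem_ker.2 (Equiv.ext fun t => Fin.ext (psiL_apply h (List.all_eq_true.1 psi_kernel sq h') t))

theorem image_a : phi (mgen 0) ∈ psiL.range :=
  ⟨eL aSeq (by simp), Equiv.ext fun t => Fin.ext (by
    rw [psiL_apply _ psi_a t]; exact rep_mgen 0 (by omega) t)⟩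

theorem image_b : phi (mgen 1) ∈ psiL.range :=
  ⟨eL bSeq (by simp), Equiv.ext fun t => Fin.ext (by
    rw [psiL_apply _ psi_b t]; exact rep_mgen 1 (by omega) t)⟩

theorem image_x : psiL (eL xSeq (by simp)) = ptPerm xIso := Equiv.ext fun t => Fin.ext (by
  obtain ⟨h1, h2⟩ := psi_x t
  rw [xPerm_apply, ← h2, ← psi_elt (seq_ok (sq := xSeq) (by simp)).1 t h1]
  rfl)

theorem image_le : simpleImage ≤ psiL.range := by
  rw [← closure_image, Subgroup.closure_le]
  rintro p (rfl | rfl)
  exacts [image_a, image_b]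

theorem card_range_ge : 2 * 3265920 ≤ Nat.card psiL.range := by
  obtain ⟨m, hm⟩ := Subgroup.card_dvd_of_le image_le
  have hne : Nat.card simpleImage ≠ Nat.card psiL.range := fun e =>
    xPerm_notMem (Subgroup.eq_of_le_of_card_ge image_le e.ge ▸ ⟨_, image_x⟩)
  rw [card_image] at hm hne
  have hpos : 0 < Nat.card psiL.range := Nat.card_pos
  omega

/-! ### The hyperbolic pairs -/

/-- The elements of the pairs. -/
noncomputable def qE (i : ℕ) : G := elt (qSeq.getD i [])

theorem qE_rel {i k : ℕ} (hi : i < 12) (hk : k < 12) (hik : i < k) :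
    (k = i + 6 → qE i * qE k = zE * (qE k * qE i)) ∧ (k ≠ i + 6 → Commute (qE i) (qE k)) := by
  have fi := (seq_ok (qSeq_seq hi)).1
  have fk := (seq_ok (qSeq_seq hk)).1
  have h := forallFrom_elim (forallFrom_elim q_comm (Nat.zero_le i) (by omega)) (Nat.zero_le k) (by omega)
  rw [Bool.or_eq_true] at h
  have h' := h.resolve_left (fun e => by have := Nat.le_of_ble_eq_true e; omega)
  constructor
  · intro e
    rw [show Nat.beq k (i + 6) = true by rw [e]; exact Nat.beq_refl _, cond_true] at h'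
    show elt _ * elt _ = elt _ * (elt _ * elt _)
    rw [← mul_assoc, ← elt_append, ← elt_append, ← elt_append]
    exact eq_of_sameSeq (fits_append fi fk) (fits_append (fits_append fits_z fk) fi) h'
  · intro e
    rw [show Nat.beq k (i + 6) = false from Bool.eq_false_iff.2 fun e' => e (Nat.eq_of_beq_eq_true e'),
      cond_false] at h'
    show elt _ * elt _ = elt _ * elt _
    rw [← elt_append, ← elt_append]
    exact eq_of_sameSeq (fits_append fi fk) (fits_append fk fi) h'

theorem qE_sq {i : ℕ} (hi : i < 12) : qE i * qE i = 1 ∧ Commute zE (qE i) := by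
  have fi := (seq_ok (qSeq_seq hi)).1
  have h := List.all_eq_true.1 q_sq _ (qSeq_mem hi)
  rw [Bool.and_eq_true] at h
  constructor
  · show elt _ * elt _ = 1
    rw [← elt_append, ← elt_nil]
    exact eq_of_sameSeq (fits_append fi fi) (fun _ hx => by simp at hx) h.1
  · show elt _ * elt _ = elt _ * elt _
    rw [← elt_append, ← elt_append]
    exact eq_of_sameSeq (fits_append fits_z fi) (fits_append fi fits_z) h.2

theorem zE_sq : zE * zE = 1 := by
  rw [zE, ← elt_append, ← elt_nil]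
  exact eq_of_sameSeq (fits_append fits_z fits_z) (fun _ hx => by simp at hx) zz_ok.1

theorem zE_ne : zE ≠ 1 := by
  rw [zE, ← elt_nil]
  exact ne_of_differAt fits_z (fun _ hx => by simp at hx) zz_ok.2.1

theorem pairs : Pairs zE qE (fun i => qE (i + 6)) 6 where
  zsq := zE_sq
  zne := zE_ne
  zu i hi := (qE_sq (by omega)).2
  zv i hi := (qE_sq (by omega)).2
  usq i hi := (qE_sq (by omega)).1
  vsq i hi := (qE_sq (by omega)).1
  uu i hi k hk := by
    rcases Nat.lt_trichotomy i k with h | h | h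
    · exact (qE_rel (by omega) (by omega) h).2 (by omega)
    · subst h; exact Commute.refl _
    · exact ((qE_rel (by omega) (by omega) h).2 (by omega)).symm
  vv i hi k hk := by
    rcases Nat.lt_trichotomy i k with h | h | h
    · exact (qE_rel (by omega) (by omega) (show i + 6 < k + 6 by omega)).2 (by omega)
    · subst h; exact Commute.refl _
    · exact ((qE_rel (by omega) (by omega) (show k + 6 < i + 6 by omega)).2 (by omega)).symm
  uv i hi k hk hne := (qE_rel (by omega) (by omega) (show i < k + 6 by omega)).2 (by omega)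
  twist i hi := (qE_rel (by omega) (by omega) (show i < i + 6 by omega)).1 rfl

/-- The kernel in the derived group. -/
noncomputable def NK : Subgroup G := psiL.ker.map CL.subtype

theorem NK_le : NK ≤ CL := Subgroup.map_subtype_le _

theorem mem_NK {x : G} : x ∈ NK ↔ ∃ h : x ∈ CL, psiL ⟨x, h⟩ = 1 := by
  constructor
  · rintro ⟨⟨y, hy⟩, hk, rfl⟩
    exact ⟨hy, MonoidHom.mem_ker.1 hk⟩
  · rintro ⟨h, hk⟩
    exact ⟨⟨x, h⟩, MonoidHom.mem_ker.2 hk, rfl⟩

/-- The group of the pairs. -/
noncomputable def QQ : Subgroup G := hull zE qE (fun i => qE (i + 6)) 6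

theorem elt_NK {sq : List ℕ} (h' : sq ∈ oSeq :: zSeq :: qSeq) : elt sq ∈ NK := by
  have h : sq ∈ zSeq :: oSeq :: aSeq :: bSeq :: xSeq :: qSeq := by
    simp only [List.mem_cons] at h' ⊢; tauto
  exact ⟨eL sq h, psiL_kernel h h', rfl⟩

theorem qE_NK {i : ℕ} (hi : i < 12) : qE i ∈ NK := elt_NK (List.mem_cons_of_mem _ (List.mem_cons_of_mem _ (qSeq_mem hi)))

theorem QQ_le : QQ ≤ NK :=
  (hull_le_iff _).2 ⟨elt_NK (by simp), fun _ hi => ⟨qE_NK (by omega), qE_NK (by omega)⟩⟩

/-- The element of order three. -/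
noncomputable def oE : G := elt oSeq

theorem oE_mem : oE ∈ NK := elt_NK (by simp)

theorem oE_cube : oE * oE * oE = 1 := by
  have f := (seq_ok (sq := oSeq) (by simp)).1
  rw [oE, ← elt_append, ← elt_append, ← elt_nil]
  exact eq_of_sameSeq (fits_append (fits_append f f) f) (fun _ hx => by simp at hx) zz_ok.2.2.1

/-- The permutations of four points that are trivial or fixed-point-free involutions. -/
def klein : Subgroup (Equiv.Perm (Fin 4)) where
  carrier := {s | s * s = 1 ∧ (s = 1 ∨ ∀ j, s j ≠ j)}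
  one_mem' := ⟨one_mul 1, Or.inl rfl⟩
  mul_mem' := by
    intro a b
    revert a b
    show ∀ a b : Equiv.Perm (Fin 4), (a * a = 1 ∧ (a = 1 ∨ ∀ j, a j ≠ j)) → (b * b = 1 ∧ (b = 1 ∨ ∀ j, b j ≠ j)) →
      (a * b) * (a * b) = 1 ∧ (a * b = 1 ∨ ∀ j, (a * b) j ≠ j)
    decide +kernel
  inv_mem' := by
    intro a
    revert a
    show ∀ a : Equiv.Perm (Fin 4), (a * a = 1 ∧ (a = 1 ∨ ∀ j, a j ≠ j)) → a⁻¹ * a⁻¹ = 1 ∧ (a⁻¹ = 1 ∨ ∀ j, a⁻¹ j ≠ j)
    decide +kernel

theorem table_base : (qSeq ++ [zSeq]).all (fun a =>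
    ((List.range 4).all fun j => Nat.beq (evS a (4 * tBase + j)) (4 * tBase + j)) ||
      ((List.range 4).all fun j => Nat.blt (evS a (4 * tBase + j)) (4 * tBase + 4) &&
        Nat.ble (4 * tBase) (evS a (4 * tBase + j)) && !Nat.beq (evS a (4 * tBase + j)) (4 * tBase + j) &&
        Nat.beq (evS a (evS a (4 * tBase + j))) (4 * tBase + j))) = true ∧
    ((List.range 4).any fun j => Nat.beq (evS oSeq (4 * tBase + j)) (4 * tBase + j)) = true ∧
    ((List.range 4).any fun j => Nat.blt (evS oSeq (4 * tBase + j)) 504 &&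
      !Nat.beq (evS oSeq (4 * tBase + j)) (4 * tBase + j)) = true := by
  decide +kernel

theorem keep_of_NK {x : G} (hx : x ∈ NK) : (⟨x, CL_le (NK_le hx)⟩ : Cz) ∈ keep := by
  obtain ⟨h, hk⟩ := mem_NK.1 hx
  refine mem_keep.2 ?_
  show psiL ⟨x, h⟩ _ = _
  rw [hk]; rfl

/-- The action of the kernel on the standard four. -/
noncomputable def sigmaN : NK →* Equiv.Perm (Fin 4) :=
  sigma.comp (MonoidHom.mk' (fun x : NK => (⟨⟨x, CL_le (NK_le x.2)⟩, keep_of_NK x.2⟩ : keep)) fun _ _ => rfl)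

theorem sigmaN_spec (x : NK) (j : Fin 4) : act (x : G) (basePt j) = basePt (sigmaN x j) :=
  onBase_spec ⟨⟨x, CL_le (NK_le x.2)⟩, keep_of_NK x.2⟩ j

theorem sigmaN_elt {sq : List ℕ} (hf : Fits sq) (hm : elt sq ∈ NK) (j : Fin 4) {v : ℕ}
    (hv : evS sq (4 * tBase + (j : ℕ)) = v) (hlt : v < 504) :
    4 * tBase + (sigmaN ⟨elt sq, hm⟩ j : ℕ) = v := by
  obtain ⟨-, e⟩ := act_elt hf (i := 4 * tBase + (j : ℕ)) (by rw [hv]; exact hlt.trans_le le_numP)
  have h := sigmaN_spec ⟨elt sq, hm⟩ j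
  rw [hv] at e
  exact (pnt_inj hlt (base_idx (sigmaN ⟨elt sq, hm⟩ j).2).1 (e.symm.trans h)).symm

theorem klein_of_table {sq : List ℕ} (h : sq ∈ qSeq ++ [zSeq]) (hf : Fits sq) (hm : elt sq ∈ NK) :
    sigmaN ⟨elt sq, hm⟩ ∈ klein := by
  have ht := List.all_eq_true.1 table_base.1 sq h
  simp only [Bool.or_eq_true, List.all_eq_true, List.mem_range, Bool.and_eq_true, Bool.not_eq_true', Nat.beq_eq] at ht
  set s := sigmaN ⟨elt sq, hm⟩
  rcases ht with ht | ht
  · have e : s = 1 := Equiv.ext fun j => Fin.ext (by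
      have := sigmaN_elt hf hm j (ht j j.2) (base_idx j.2).1
      show (s j : ℕ) = j
      exact Nat.add_left_cancel this)
    rw [e]; exact one_mem _
  · have hs : ∀ j : Fin 4, 4 * tBase + (s j : ℕ) = evS sq (4 * tBase + (j : ℕ)) := fun j => by
      obtain ⟨⟨⟨a, b⟩, c⟩, d⟩ := ht j j.2
      have := Nat.le_of_ble_eq_true a
      have h4 := (base_idx (show 3 < 4 by omega)).1
      exact sigmaN_elt hf hm j rfl (by omega)
    refine ⟨Equiv.ext fun j => Fin.ext ?_, Or.inr fun j e => ?_⟩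
    · obtain ⟨-, d⟩ := ht j j.2
      have h1 : 4 * tBase + (s (s j) : ℕ) = 4 * tBase + (j : ℕ) :=
        ((hs (s j)).trans (congrArg (evS sq) (hs j))).trans d
      show (s (s j) : ℕ) = j
      omega
    · obtain ⟨⟨-, c⟩, -⟩ := ht j j.2
      rw [← hs j, e, Nat.beq_refl] at c
      exact Bool.noConfusion c

theorem oE_notKlein : sigmaN ⟨oE, oE_mem⟩ ∉ klein := by
  rintro ⟨-, h⟩
  obtain ⟨-, h1, h2⟩ := table_base
  simp only [List.any_eq_true, List.mem_range, Bool.and_eq_true, Bool.not_eq_true', Nat.beq_eq] at h1 h2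
  obtain ⟨j, hj, ej⟩ := h1
  obtain ⟨k, hk, hk1, hk2⟩ := h2
  have f := (seq_ok (sq := oSeq) (by simp)).1
  have e1 := sigmaN_elt f oE_mem ⟨j, hj⟩ ej (base_idx hj).1
  have e2 := sigmaN_elt f oE_mem ⟨k, hk⟩ rfl (Nat.le_of_ble_eq_true hk1)
  rcases h with h | h
  · rw [← e2, show sigmaN ⟨elt oSeq, oE_mem⟩ = 1 from h] at hk2
    exact absurd hk2 (by simp)
  · exact h ⟨j, hj⟩ (Fin.ext (by simp only at e1 ⊢; exact Nat.add_left_cancel e1))

/-- The elements of the kernel acting on the standard four inside the four-group. -/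
noncomputable def KK : Subgroup G := (klein.comap sigmaN).map NK.subtype

theorem KK_le : KK ≤ NK := Subgroup.map_subtype_le _

theorem mem_KK {x : G} (h : x ∈ NK) : x ∈ KK ↔ sigmaN ⟨x, h⟩ ∈ klein := by
  constructor
  · rintro ⟨⟨y, hy⟩, hk, rfl⟩; exact hk
  · exact fun hk => ⟨⟨x, h⟩, hk, rfl⟩

theorem QQ_le_KK : QQ ≤ KK := by
  refine (hull_le_iff _).2 ⟨?_, fun i hi => ⟨?_, ?_⟩⟩
  · exact (mem_KK (elt_NK (by simp))).2 (klein_of_table (by simp) fits_z _)
  · exact (mem_KK (qE_NK (by omega))).2 (klein_of_table (List.mem_append_left _ (qSeq_mem (show i < 12 by omega)))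
      (seq_ok (qSeq_seq (by omega))).1 _)
  · exact (mem_KK (qE_NK (by omega))).2 (klein_of_table (List.mem_append_left _ (qSeq_mem (show i + 6 < 12 by omega)))
      (seq_ok (qSeq_seq (by omega))).1 _)

theorem sq_QQ {x : G} (hx : x ∈ QQ) : x * x ∈ Subgroup.zpowers zE ∧ (x * x) * (x * x) = 1 := by
  have h := (pairs.comm_sq x hx).1
  refine ⟨h, ?_⟩
  obtain ⟨k, hk⟩ := h
  rw [← hk]
  show zE ^ k * zE ^ k = 1
  rw [← zpow_add, ← two_mul, zpow_mul, zpow_two, zE_sq, one_zpow]

theorem QQ_two : IsPGroup 2 QQ := fun x => ⟨2, Subtype.ext (by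
  show (x : G) ^ (2 ^ 2) = 1
  rw [show (2 : ℕ) ^ 2 = 2 * 2 by norm_num, pow_mul, pow_two, pow_two]
  exact (sq_QQ x.2).2)⟩

theorem orderOf_oE : orderOf oE = 3 := by
  refine orderOf_eq_prime (by rw [pow_succ, pow_two]; exact oE_cube) fun e => oE_notKlein ?_
  rw [show (⟨oE, oE_mem⟩ : NK) = 1 from Subtype.ext e, map_one]
  exact one_mem _

theorem card_NK_le : Nat.card NK * Nat.card psiL.range = Nat.card CL := by
  rw [show Nat.card NK = Nat.card psiL.ker from Subgroup.card_subtype _ _,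
    ← Nat.card_congr (QuotientGroup.quotientKerEquivRange psiL).toEquiv, Nat.mul_comm]
  exact (Subgroup.card_eq_card_quotient_mul_card_subgroup _).symm

theorem cards : Nat.card QQ = 8192 ∧ Nat.card NK = 24576 ∧ Nat.card psiL.range = 2 * 3265920 ∧
    Nat.card CL = 160526499840 := by
  haveI : Fact (Nat.Prime 2) := ⟨Nat.prime_two⟩
  obtain ⟨a, ha⟩ := IsPGroup.iff_card.1 QQ_two
  have hge : 8192 ≤ Nat.card QQ := le_trans (by norm_num) pairs.card_hull_ge
  have h1 : Nat.card QQ ∣ Nat.card NK := Subgroup.card_dvd_of_le QQ_le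
  have h3 : 3 ∣ Nat.card NK := by
    rw [← orderOf_oE, ← Subgroup.orderOf_mk oE oE_mem]
    exact orderOf_dvd_natCard _
  have hco : Nat.Coprime (Nat.card QQ) 3 := by rw [ha]; exact Nat.Coprime.pow_left a (by norm_num)
  have h4 := Nat.le_of_dvd Nat.card_pos (hco.mul_dvd_of_dvd_of_dvd h1 h3)
  have h5 := card_NK_le
  have h6 := card_CL
  have h7 := card_range_ge
  have h8 : Nat.card NK * (2 * 3265920) ≤ 160526499840 :=
    le_trans (Nat.mul_le_mul_left _ h7) (h5.trans_le h6)
  have hN : Nat.card NK = 24576 := by omega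
  have hQ : Nat.card QQ = 8192 := by omega
  rw [hN] at h5
  refine ⟨hQ, hN, ?_, ?_⟩ <;> omega

theorem KK_eq : KK = QQ := by
  haveI : Fact (Nat.Prime 3) := ⟨Nat.prime_three⟩
  obtain ⟨hQ, hN, -, -⟩ := cards
  refine (Subgroup.eq_of_le_of_card_ge QQ_le_KK ?_).symm
  obtain ⟨m, hm⟩ := Subgroup.card_dvd_of_le QQ_le_KK
  obtain ⟨k, hk⟩ := Subgroup.card_dvd_of_le KK_le
  have hne : k ≠ 1 := fun e => oE_notKlein ((mem_KK oE_mem).1 (by
    rw [Subgroup.eq_of_le_of_card_ge KK_le (by rw [hk, e, mul_one])]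
    exact oE_mem))
  rw [hm, hQ, hN] at hk
  have h3 : (3 : ℕ) = m * k := by
    have : 8192 * 3 = 8192 * (m * k) := by rw [← mul_assoc]; exact hk
    exact Nat.eq_of_mul_eq_mul_left (by norm_num) this
  rcases (Nat.dvd_prime Nat.prime_three).1 (Dvd.intro_left m h3.symm) with e | e
  · exact absurd e hne
  · rw [hm, hQ]
    subst e
    omega

/-- A subgroup of index three with representatives. -/
theorem coset_cases {x : G} (hx : x ∈ NK) :
    x ∈ QQ ∨ (∃ q ∈ QQ, x = q * oE) ∨ ∃ q ∈ QQ, x = q * (oE * oE) := by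
  classical
  obtain ⟨hQ, hN, -, -⟩ := cards
  have hnot : ∀ {y : G}, y = oE ∨ y = oE * oE → y ∉ QQ := by
    rintro y (rfl | rfl) hy <;> rw [← KK_eq] at hy
    · exact oE_notKlein ((mem_KK oE_mem).1 hy)
    · refine oE_notKlein ((mem_KK oE_mem).1 ?_)
      rw [show oE = (oE * oE)⁻¹ from eq_inv_of_mul_eq_one_right oE_cube]
      exact inv_mem hy
  let r : Fin 3 → G := ![1, oE, oE * oE]
  have hr : ∀ i, r i ∈ NK := by
    intro i; fin_cases i
    exacts [one_mem _, oE_mem, mul_mem oE_mem oE_mem]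
  let f : QQ × Fin 3 → NK := fun p => ⟨p.1 * r p.2, mul_mem (QQ_le p.1.2) (hr p.2)⟩
  have hoe : oE⁻¹ = oE * oE := (eq_inv_of_mul_eq_one_left oE_cube).symm
  have hf : Function.Injective f := by
    rintro ⟨q, i⟩ ⟨q', i'⟩ e
    have e' : (q : G) * r i = q' * r i' := congrArg Subtype.val e
    have hmem : r i' * (r i)⁻¹ ∈ QQ := by
      rw [show r i' * (r i)⁻¹ = (q' : G)⁻¹ * ((q' : G) * r i') * (r i)⁻¹ by group, ← e', mul_assoc,
        mul_inv_cancel_right]
      exact mul_mem (inv_mem q'.2) q.2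
    obtain rfl : i = i' := by
      have hoo : (oE * oE)⁻¹ = oE := (eq_inv_of_mul_eq_one_right oE_cube).symm
      fin_cases i <;> fin_cases i' <;> simp only [r, Fin.mk_one, Matrix.cons_val_zero, Matrix.cons_val_one,
        Matrix.head_cons, Fin.zero_eta, Fin.reduceFinMk, Matrix.cons_val_two, Matrix.tail_cons] at hmem ⊢
      · simp only [inv_one, mul_one] at hmem; exact absurd hmem (hnot (Or.inl rfl))
      · simp only [inv_one, mul_one] at hmem; exact absurd hmem (hnot (Or.inr rfl))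
      · rw [one_mul, hoe] at hmem; exact absurd hmem (hnot (Or.inr rfl))
      · rw [mul_inv_cancel_right] at hmem; exact absurd hmem (hnot (Or.inl rfl))
      · rw [one_mul, hoo] at hmem; exact absurd hmem (hnot (Or.inl rfl))
      · rw [hoo] at hmem; exact absurd hmem (hnot (Or.inr rfl))
    exact Prod.ext (Subtype.ext (mul_right_cancel e')) rfl
  have hb := (Nat.bijective_iff_injective_and_card f).2 ⟨hf, by
    rw [Nat.card_prod, Nat.card_fin, hQ, hN]⟩
  obtain ⟨⟨q, i⟩, e⟩ := hb.2 ⟨x, hx⟩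
  have e' : (q : G) * r i = x := congrArg Subtype.val e
  fin_cases i
  · exact Or.inl (by rw [← e']; simpa [r] using q.2)
  · exact Or.inr (Or.inl ⟨q, q.2, by rw [← e']; simp [r]⟩)
  · exact Or.inr (Or.inr ⟨q, q.2, by rw [← e']; simp [r]⟩)

/-- An element of the kernel of 2-power order is in the group of the pairs. -/
theorem two_mem {x : G} (hx : x ∈ NK) {k : ℕ} (hk : x ^ (2 ^ k) = 1) : x ∈ QQ := by
  rw [← KK_eq, mem_KK hx]
  set y : NK := ⟨x, hx⟩
  haveI hn : (klein.comap sigmaN).Normal := by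
    refine Subgroup.Normal.comap ?_ _
    refine ⟨fun n hn g => ?_⟩
    revert hn
    revert n g
    show ∀ n g : Equiv.Perm (Fin 4), (n * n = 1 ∧ (n = 1 ∨ ∀ j, n j ≠ j)) →
      (g * n * g⁻¹) * (g * n * g⁻¹) = 1 ∧ (g * n * g⁻¹ = 1 ∨ ∀ j, (g * n * g⁻¹) j ≠ j)
    decide +kernel
  have hidx : (klein.comap sigmaN).index = 3 := by
    have h := (klein.comap sigmaN).card_mul_index
    have hK : Nat.card (klein.comap sigmaN : Subgroup NK) = Nat.card QQ := by
      rw [← KK_eq]; exact (Subgroup.card_subtype _ _).symm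
    obtain ⟨hQ, hN, -, -⟩ := cards
    rw [hK, hQ, hN] at h
    omega
  have h3 : (QuotientGroup.mk y : NK ⧸ klein.comap sigmaN) ^ 3 = 1 := by
    rw [← hidx, Subgroup.index_eq_card]; exact pow_card_eq_one'
  have h2 : (QuotientGroup.mk y : NK ⧸ klein.comap sigmaN) ^ (2 ^ k) = 1 := by
    rw [← QuotientGroup.mk_pow, show y ^ (2 ^ k) = 1 from Subtype.ext hk]; rfl
  have h1 := pow_gcd_eq_one.2 ⟨h3, h2⟩
  rw [Nat.Coprime.gcd_eq_one ((Nat.Coprime.pow_left k (by norm_num : Nat.Coprime 2 3)).symm), pow_one] at h1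
  exact (QuotientGroup.eq_one_iff y).1 h1

end CfsgLib.Recog.FiFourQuad
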