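import Cfsg.Agent.Lib.Recog.FiFourQuad.Elements
import Cfsg.Agent.Lib.Recog.FiFourQuad.CheckFixed

set_option autoImplicit false
set_option maxRecDepth 100000
set_option linter.style.haveILetI false

/-!
Ordered quadruples of commuting members of the class of Fi24: one orbit, and the order of their stabiliser
(owner: helper2).
-/

namespace CfsgLib.Recog.FiFourQuad

open Cfsg CfsgLib.Recog.BitPerm CfsgLib.Recog.FiFour CfsgLib.Recog.FiFour.Aut CfsgLib.Recog.FiTypes

attribute [local instance] FiThree.finite_fi23' finite_fi24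

local notation "G" => Cfsg.Spor.Fi24

theorem base_idx {j : ℕ} (hj : j < 4) : 4 * tBase + j < 504 ∧ 4 * tBase + j = lpi (baseLetter j) := by
  have h := List.all_eq_true.1 base_small j (List.mem_range.2 hj)
  rw [Bool.and_eq_true] at h
  exact ⟨Nat.le_of_ble_eq_true h.1, Nat.eq_of_beq_eq_true h.2⟩

theorem baseLetter_lt {j : ℕ} (hj : j < 4) : baseLetter j < 12 := by
  interval_cases j <;> decide

theorem gg_base {j : ℕ} (hj : j < 4) : gg (baseLetter j) = T (basePt j) := by
  rw [gg_eq_T (baseLetter_lt hj), ← (base_idx hj).2]; rfl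

theorem basePt_lt {j : ℕ} (hj : j < 4) : basePt j < numPts := pnt_numPts ((base_idx hj).1.trans_le le_numP)

theorem basePt_zero : basePt 0 = 0 := by
  have h := quad_base
  simp only [Bool.and_eq_true, Nat.beq_eq] at h
  show pnt (4 * tBase + 0) = 0
  rw [Nat.add_zero, h.1]; exact h.2.2.2.2

/-- The elements fixing the first `k` standard points. -/
noncomputable def stab (k : ℕ) : Subgroup G where
  carrier := {g | ∀ j < k, act g (basePt j) = basePt j}
  one_mem' := fun _ _ => by rw [map_one]; rfl
  mul_mem' := fun {g g'} hg hg' j hj => by rw [map_mul, Equiv.Perm.mul_apply, hg' j hj, hg j hj]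
  inv_mem' := fun {g} hg j hj => by rw [map_inv, Equiv.Perm.inv_eq_iff_eq]; exact (hg j hj).symm

theorem level_check {k : ℕ} (hk : k ∈ [1, 2, 3]) :
    ((levelW k).all fun w => (List.range k).all fun j => mapsOK FiFour.net w (basePt j) (basePt j)) = true ∧
    Nat.beq (Nat.lor (Nat.lor (baseMoved k) (baseSet k)) (levelOrbit k)) (2 ^ numPts - 1) = true ∧
    Nat.ble (levelN k) (bitCountBlocks (levelOrbit k) 1199) = true := by
  simp only [List.mem_cons, List.not_mem_nil, or_false] at hk
  rcases hk with rfl | rfl | rfl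
  exacts [⟨fix_one, cover_one, count_one⟩, ⟨fix_two, cover_two, count_two⟩, ⟨fix_three, cover_three, count_three⟩]

/-- The orbit is reached by elements fixing the earlier points. -/
theorem orbit_spec {k : ℕ} (hk : k ∈ [1, 2, 3]) {c : ℕ} (hc : (levelOrbit k).testBit c = true) :
    ∃ g ∈ stab k, act g (basePt k) = c := by
  obtain ⟨-, ⟨g, hg, rfl⟩, e⟩ := orbitSet_sub netValid (K := (stab k).map act) (fun w hw => by
    refine ⟨FiFour.word w, fun j hj => ?_, act_word w⟩
    exact act_maps (List.all_eq_true.1 (List.all_eq_true.1 (level_check hk).1 w hw) j (List.mem_range.2 hj)))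
    _ c hc
  exact ⟨g, hg, e⟩

/-- A point fixed by the first `k` letters other than theirs is in the orbit. -/
theorem orbit_of_fixed {k : ℕ} (hk : k ∈ [1, 2, 3]) {c : ℕ} (hc : c < numPts)
    (hfix : ∀ j < k, act (gg (baseLetter j)) c = c) (hne : ∀ j < k, basePt j ≠ c) :
    ∃ g ∈ stab k, act g (basePt k) = c := by
  refine orbit_spec hk (bit_of_cover (level_check hk).2.1 hc (testBit_lor_false.2 ⟨?_, ?_⟩))
  · have key : ∀ n, n ≤ k → (baseMoved n).testBit c = false := by
      intro n hn
      induction n with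
      | zero => exact Nat.zero_testBit c
      | succ n ih =>
        show (Nat.lor (baseMoved n) (movedB 19 net [baseLetter n])).testBit c = false
        exact testBit_lor_false.2 ⟨ih (by omega), not_movedB netValid (by
          rw [← act_word, FiFour.word_singleton]; exact hfix n (by omega))⟩
    exact key k le_rfl
  · refine Bool.eq_false_iff.2 fun h => ?_
    obtain ⟨j, hj, e⟩ := mem_allSet.1 h
    exact hne j hj e

theorem stab_step {k : ℕ} (hk : k ∈ [1, 2, 3]) :
    levelN k * Nat.card (stab (k + 1)) ≤ Nat.card (stab k) := by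
  classical
  set P := (Finset.range (256 * 1199)).filter fun i => (levelOrbit k).testBit i = true
  have hsz : levelN k ≤ P.card := (Nat.le_of_ble_eq_true (level_check hk).2.2).trans_eq (bitCountBlocks_eq _ _)
  have hex : ∀ c : P, ∃ g ∈ stab k, act g (basePt k) = c := fun c => orbit_spec hk (Finset.mem_filter.1 c.2).2
  choose g hg hgc using hex
  let f : P × stab (k + 1) → stab k := fun p =>
    ⟨g p.1 * p.2.1, mul_mem (hg p.1) fun j hj => p.2.2 j (by omega)⟩
  have hf : Function.Injective f := by
    intro p q hpq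
    have e := congrArg Subtype.val hpq
    have e' := congrArg (fun s => act s (basePt k)) e
    simp only [f, map_mul, Equiv.Perm.mul_apply, p.2.2 k (by omega), q.2.2 k (by omega), hgc] at e'
    have e1 : p.1 = q.1 := Subtype.ext e'
    simp only [f, e1] at e
    exact Prod.ext e1 (Subtype.ext (mul_left_cancel e))
  have h := Nat.card_le_card_of_injective f hf
  rw [Nat.card_prod, Nat.card_eq_fintype_card (α := P), Fintype.card_coe] at h
  exact le_trans (Nat.mul_le_mul_right _ hsz) h

theorem card_stab_four : Nat.card (stab 4) ≤ 106168320 := by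
  have e : stab 1 = hTop := by
    ext g
    constructor
    · intro h
      exact stab_iff.1 (by have := h 0 (by omega); rwa [basePt_zero] at this)
    · intro h j hj
      obtain rfl : j = 0 := by omega
      rw [basePt_zero]; exact stab_iff.2 h
  have h1 := stab_step (k := 1) (by simp)
  have h2 := stab_step (k := 2) (by simp)
  have h3 := stab_step (k := 3) (by simp)
  rw [e, card_hTop] at h1
  simp only [levelN, Nat.reduceAdd] at h1 h2 h3
  omega

/-- A member commuting with standard members, other than them, is moved to the next one fixing them. -/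
theorem move_next {k : ℕ} (hk : k ∈ [1, 2, 3]) {d : G} (hd : d ∈ D24)
    (hc : ∀ j < k, Commute (gg (baseLetter j)) d) (hne : ∀ j < k, d ≠ gg (baseLetter j)) :
    ∃ g : G, (∀ j < k, g * gg (baseLetter j) * g⁻¹ = gg (baseLetter j)) ∧ g * d * g⁻¹ = gg (baseLetter k) := by
  have hk4 : k < 4 := by
    simp only [List.mem_cons, List.not_mem_nil, or_false] at hk; omega
  obtain ⟨c, hcl, rfl⟩ := exists_T hd
  obtain ⟨g, hg, e⟩ := orbit_of_fixed hk hcl (fun j hj => (commute_T hcl).1 (hc j hj))
    (fun j hj e => hne j hj (by rw [← e, gg_base (by omega)]))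
  have hgi := inv_mem hg
  refine ⟨g⁻¹, fun j hj => ?_, ?_⟩
  · rw [gg_base (show j < 4 by omega), T_conj g⁻¹ (basePt_lt (by omega)), hgi j hj]
  · rw [T_conj g⁻¹ hcl, gg_base hk4, ← e, ← Equiv.Perm.mul_apply, ← map_mul, inv_mul_cancel, map_one]; rfl

/-- Four distinct commuting members are conjugate to the standard four. -/
theorem quad_conj {d : Fin 4 → G} (hd : ∀ j, d j ∈ D24) (hc : ∀ i j, Commute (d i) (d j))
    (hne : Function.Injective d) :
    ∃ g : G, ∀ j : Fin 4, g * d j * g⁻¹ = gg (baseLetter j) := by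
  have mem : ∀ (g : G) {x : G}, x ∈ D24 → g * x * g⁻¹ ∈ D24 := fun g x hx => by
    obtain ⟨h, rfl⟩ := isConj_iff.1 hx
    exact isConj_iff.2 ⟨g * h, by group⟩
  have key : ∀ n, n < 4 → ∃ g : G, ∀ j : Fin 4, (j : ℕ) ≤ n → g * d j * g⁻¹ = gg (baseLetter j) := by
    intro n
    induction n with
    | zero =>
      intro _
      obtain ⟨h, e⟩ := isConj_iff.1 (hd 0)
      refine ⟨h⁻¹, fun j hj => ?_⟩
      obtain rfl : j = 0 := Fin.ext (by simpa using hj)
      show h⁻¹ * d 0 * h⁻¹⁻¹ = gg 11
      rw [← e]; group
    | succ n ih =>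
      intro hn
      obtain ⟨g, hg⟩ := ih (by omega)
      set e : G := g * d ⟨n + 1, hn⟩ * g⁻¹
      have hk : n + 1 ∈ [1, 2, 3] := by simp only [List.mem_cons, List.not_mem_nil, or_false]; omega
      obtain ⟨h, h1, h2⟩ := move_next hk (mem g (hd ⟨n + 1, hn⟩)) (fun j hj => by
          rw [← hg ⟨j, by omega⟩ (show j ≤ n by omega)]
          exact CfsgLib.ThreeTrans.commute_conj_iff.2 (hc _ _))
        (fun j hj e => by
          rw [← hg ⟨j, by omega⟩ (show j ≤ n by omega)] at e
          have := congrArg Fin.val (hne (mul_left_cancel (mul_right_cancel e)))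
          simp only at this
          omega)
      refine ⟨h * g, fun j hj => ?_⟩
      rw [show h * g * d j * (h * g)⁻¹ = h * (g * d j * g⁻¹) * h⁻¹ by group]
      rcases Nat.lt_or_ge (j : ℕ) (n + 1) with hlt | hge
      · rw [hg j (by omega), h1 _ hlt]
      · obtain rfl : j = ⟨n + 1, hn⟩ := Fin.ext (by simp only; omega)
        exact h2
  obtain ⟨g, hg⟩ := key 3 (by omega)
  exact ⟨g, fun j => hg j (by omega)⟩

end CfsgLib.Recog.FiFourQuad
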