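import Cfsg.Agent.Lib.Recog.FiFourQuad.Levels
import Cfsg.Agent.Lib.Schur.PermChain

set_option autoImplicit false
set_option maxRecDepth 100000
set_option linter.style.haveILetI false

/-!
The centraliser of the product of the standard four acts on the 126 quadruples of commuting members with this
product (owner: helper2).

The quadruple of a fixed point `p` is told from the commuting relation: it is the set of fixed points commuting with
every fixed point that commutes with `p`.
-/

namespace CfsgLib.Recog.FiFourQuad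

open Cfsg CfsgLib.Recog.BitPerm CfsgLib.Recog.FiFour CfsgLib.Recog.FiFour.Aut CfsgLib.Recog.FiTypes
open CfsgLib.Schur.Cert (KeyTree distinctOK_spec)
open CfsgLib.ThreeTrans.CosetIndex (forallFrom forallFrom_elim)

attribute [local instance] FiThree.finite_fi23' finite_fi24

local notation "G" => Cfsg.Spor.Fi24

theorem getD_fits {L : List (List ℕ)} (h : ∀ sq ∈ L, Fits sq) (i : ℕ) : Fits (L.getD i []) := by
  rcases Nat.lt_or_ge i L.length with hi | hi
  · rw [List.getD_eq_getElem _ _ hi]; exact h _ (List.getElem_mem hi)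
  · rw [List.getD_eq_default _ _ hi]; intro g hg; simp at hg

theorem fits_append {s t : List ℕ} (hs : Fits s) (ht : Fits t) : Fits (s ++ t) :=
  fun g hg => (List.mem_append.1 hg).elim (hs g) (ht g)

theorem fits_one {g : ℕ} (hg : g < 13) : Fits [g] := fun x hx => (List.mem_singleton.1 hx).symm ▸ hg

theorem fits_z : Fits zSeq := fun g hg => by
  simp only [zSeq, List.mem_cons, List.not_mem_nil, or_false] at hg
  omega

/-- The product of the standard four. -/
noncomputable def zE : G := elt zSeq

/-- Its centraliser. -/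
noncomputable def Cz : Subgroup G := Subgroup.centralizer ({zE} : Set G)

theorem gen_mem {g : ℕ} (hg : g < 13) : elt [g] ∈ Cz := by
  refine Subgroup.mem_centralizer_singleton_iff.2 ?_
  show elt [g] * elt zSeq = elt zSeq * elt [g]
  rw [← elt_append, ← elt_append]
  exact eq_of_sameSeq (fits_append (fits_one hg) fits_z) (fits_append fits_z (fits_one hg))
    (forallFrom_elim gen_z (Nat.zero_le g) (by omega))

theorem elt_mem : ∀ {sq : List ℕ}, Fits sq → elt sq ∈ Cz
  | [], _ => by rw [elt_nil]; exact one_mem _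
  | g :: sq, h => by
    rw [elt_cons]
    exact mul_mem (gen_mem (h g List.mem_cons_self)) (elt_mem fun x hx => h x (List.mem_cons_of_mem _ hx))

theorem comm_z {g : G} (hg : g ∈ Cz) : g * zE = zE * g := Subgroup.mem_centralizer_singleton_iff.1 hg

/-- A point whose member commutes with the product. -/
def OnFix (c : ℕ) : Prop := c < numPts ∧ act zE c = c

theorem onFix_map {g : G} (hg : g ∈ Cz) {c : ℕ} (h : OnFix c) : OnFix (act g c) := by
  refine ⟨act_lt' g h.1, ?_⟩
  rw [← Equiv.Perm.mul_apply, ← map_mul, ← comm_z hg, map_mul, Equiv.Perm.mul_apply, h.2]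

/-- The members of two points commute. -/
def Adj (p q : ℕ) : Prop := act (T p) q = q

theorem adj_map (g : G) {p q : ℕ} (hp : p < numPts) : Adj (act g p) (act g q) ↔ Adj p q := by
  show act (T (act g p)) (act g q) = act g q ↔ _
  rw [← T_conj g hp, map_mul, map_mul, Equiv.Perm.mul_apply, Equiv.Perm.mul_apply,
    ← Equiv.Perm.mul_apply (act g⁻¹) (act g), ← map_mul, inv_mul_cancel, map_one]
  exact (act g).injective.eq_iff

theorem adj_comm {p q : ℕ} (hp : p < numPts) (hq : q < numPts) : Adj p q ↔ Adj q p := by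
  show act (T p) q = q ↔ act (T q) p = p
  rw [← commute_T hq, ← commute_T hp]
  exact ⟨Commute.symm, Commute.symm⟩

/-- The quadruple of a fixed point. -/
def Fib (p q : ℕ) : Prop := OnFix q ∧ ∀ s, OnFix s → Adj p s → Adj q s

theorem fib_map_of {g : G} (hg : g ∈ Cz) {p q : ℕ} (hp : OnFix p) (h : Fib p q) : Fib (act g p) (act g q) := by
  refine ⟨onFix_map hg h.1, fun s hs ha => ?_⟩
  obtain ⟨s', rfl⟩ : ∃ s', s = act g s' :=
    ⟨act g⁻¹ s, by rw [← Equiv.Perm.mul_apply, ← map_mul, mul_inv_cancel, map_one]; rfl⟩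
  have hs' : OnFix s' := by
    have := onFix_map (inv_mem hg) hs
    rwa [← Equiv.Perm.mul_apply, ← map_mul, inv_mul_cancel, map_one, Equiv.Perm.one_apply] at this
  exact (adj_map g h.1.1).2 (h.2 s' hs' ((adj_map g hp.1).1 ha))

theorem fib_map {g : G} (hg : g ∈ Cz) {p q : ℕ} (hp : OnFix p) : Fib (act g p) (act g q) ↔ Fib p q := by
  refine ⟨fun h => ?_, fib_map_of hg hp⟩
  have := fib_map_of (inv_mem hg) (onFix_map hg hp) h
  simpa [← Equiv.Perm.mul_apply, ← map_mul] using this

/-! ### The fixed points -/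

theorem onFix_pnt {i : ℕ} (hi : i < 504) : OnFix (pnt i) := by
  refine ⟨pnt_numPts (hi.trans_le le_numP), ?_⟩
  obtain ⟨c, hc⟩ : ∃ c, evS zSeq i = c := ⟨_, rfl⟩
  have h0 : basePt 0 = 0 := basePt_zero
  have hbase : OnFix 0 := by
    refine ⟨by rw [← h0]; exact basePt_lt (by omega), ?_⟩
    have e : zE = gg 11 * gg 0 * gg 2 * gg 4 := by
      rw [zE, elt]
      simp [seqW, zSeq, gW, FiFour.word, mul_assoc]
    have fx : ∀ j, j < 4 → act (gg (baseLetter j)) 0 = 0 := fun j hj => by
      refine comm_l_iff.1 ?_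
      interval_cases j
      exacts [rfl, l_comm (show 0 ∈ hLetters by decide), l_comm (show 2 ∈ hLetters by decide),
        l_comm (show 4 ∈ hLetters by decide)]
    have f0 : act (gg 11) 0 = 0 := fx 0 (by omega)
    have f1 : act (gg 0) 0 = 0 := fx 1 (by omega)
    have f2 : act (gg 2) 0 = 0 := fx 2 (by omega)
    have f3 : act (gg 4) 0 = 0 := fx 3 (by omega)
    rw [e, map_mul, map_mul, map_mul, Equiv.Perm.mul_apply, Equiv.Perm.mul_apply, Equiv.Perm.mul_apply, f3, f2, f1, f0]
  have hb : 4 * tBase < 504 := (base_idx (j := 0) (by omega)).1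
  have h1 := forallFrom_elim tree_ok (Nat.zero_le (i / 4)) (by omega)
  have h2 := forallFrom_elim swaps_ok (Nat.zero_le (i % 4)) (by omega)
  simp only [Bool.and_eq_true, Nat.beq_eq] at h1 h2
  have h3 := forallFrom_elim h1.2 (Nat.zero_le (i % 4)) (by omega)
  rw [Nat.beq_eq, show 4 * (i / 4) + i % 4 = i by omega] at h3
  obtain ⟨-, a1⟩ := act_elt (fits_of_all h2.2.1) (i := 4 * tBase)
    (by rw [h2.1]; exact ((base_idx (j := i % 4) (by omega)).1).trans_le le_numP)
  obtain ⟨-, a2⟩ := act_elt (fits_of_all h1.1) (i := 4 * tBase + i % 4) (by rw [h3]; exact hi.trans_le le_numP)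
  rw [h2.1] at a1
  rw [h3] at a2
  have hz : OnFix (pnt (4 * tBase)) := by
    have : pnt (4 * tBase) = 0 := h0
    rw [this]; exact hbase
  have := onFix_map (elt_mem (fits_of_all h1.1)) (onFix_map (elt_mem (fits_of_all h2.2.1)) hz)
  rw [a1, a2] at this
  exact this.2

theorem exists_idx {c : ℕ} (hc : OnFix c) : ∃ i < 504, pnt i = c :=
  mem_allSet.1 (bit_of_cover z_cover hc.1 (not_movedB netValid (by rw [← act_word]; exact hc.2)))

theorem pnt_inj {i k : ℕ} (hi : i < 504) (hk : k < 504) (e : pnt i = pnt k) : i = k := by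
  have h := (distinctOK_spec (T := KeyTree.leaf) trivial distinct_ok).1
  exact List.inj_on_of_nodup_map h (List.mem_range.2 hi) (List.mem_range.2 hk) e

theorem adj_zero (q : ℕ) : Adj 0 q ↔ act (gg 11) q = q := by rw [Adj, T_zero]

theorem fib_zero {i : ℕ} (hi : i < 504) : Fib 0 (pnt i) ↔ i / 4 = tBase := by
  constructor
  · rintro ⟨-, h⟩
    by_contra hne
    have hw := forallFrom_elim wit_cover (Nat.zero_le i) (by omega)
    rw [Bool.or_eq_true, List.any_eq_true] at hw
    rcases hw with hw | ⟨d, hd, hw⟩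
    · exact hne (Nat.eq_of_beq_eq_true hw)
    rw [Bool.and_eq_true, Bool.not_eq_true'] at hw
    have hd' := List.all_eq_true.1 wit_ok d hd
    simp only [Bool.and_eq_true, Nat.beq_eq, beq_iff_eq] at hd'
    obtain ⟨hs, hf, hlet, hx, hlt, hadj⟩ := hd'
    have hs' : d.2.1 < 13 := Nat.le_of_ble_eq_true hs
    have hx' : d.2.2 < 12 := Nat.le_of_ble_eq_true hx
    have hlt' : evS d.1 (lpi d.2.2) < 504 := Nat.le_of_ble_eq_true hlt
    set s := pnt (evS d.1 (lpi d.2.2))
    have hfd : Fits d.1 := fits_of_all hf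
    obtain ⟨-, a1⟩ := act_elt hfd (i := lpi d.2.2) (hlt'.trans_le le_numP)
    have hT : T s = elt (d.1 ++ [d.2.1] ++ d.1.reverse) := by
      have hrev : ∀ {sq : List ℕ}, Fits sq → elt sq.reverse = (elt sq)⁻¹ := by
        intro sq hsq
        induction sq with
        | nil => simp [elt_nil]
        | cons g sq ih =>
          rw [List.reverse_cons, elt_append, ih fun x hx => hsq x (List.mem_cons_of_mem _ hx), elt_cons g sq,
            mul_inv_rev]
          congr 1
          have hg := hsq g List.mem_cons_self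
          refine (inv_eq_of_mul_eq_one_right ?_).symm
          rw [← elt_append]
          exact eq_of_sameSeq (fits_append (fits_one hg) (fits_one hg)) (fun x hx => by simp at hx)
            (forallFrom_elim gen_sq (Nat.zero_le g) (by omega))
      rw [elt_append, elt_append, hrev hfd, elt_single, hlet, FiFour.word_singleton, gg_eq_T hx',
        T_conj _ (pnt_numPts (lpi_lt hx')), a1]
    have h0 : Adj 0 s := by
      rw [adj_zero]
      obtain ⟨-, a2⟩ := act_elt (fits_one (show 0 < 13 by omega)) (i := evS d.1 (lpi d.2.2))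
        (by rw [hadj]; exact hlt'.trans_le le_numP)
      rw [hadj, elt_single, show gW.getD 0 [] = [11] from rfl, FiFour.word_singleton] at a2
      exact a2
    have h1 := h s (onFix_pnt hlt') h0
    rw [adj_comm (pnt_numPts (hi.trans_le le_numP)) (onFix_pnt hlt').1] at h1
    rw [Adj, hT] at h1
    have hfit : Fits (d.1 ++ [d.2.1] ++ d.1.reverse) :=
      fits_append (fits_append hfd (fits_one hs')) fun x hx => hfd x (List.mem_reverse.1 hx)
    obtain ⟨-, a3⟩ := act_elt hfit (i := i) (Nat.le_of_ble_eq_true hw.1)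
    rw [a3] at h1
    rw [h1, Nat.beq_refl] at hw
    exact Bool.noConfusion hw.2
  · intro e
    refine ⟨onFix_pnt hi, fun s hs ha => ?_⟩
    obtain ⟨j, hj, rfl⟩ : ∃ j < 4, i = 4 * tBase + j := ⟨i % 4, by omega, by omega⟩
    show act (T (basePt j)) s = s
    rw [← gg_base hj]
    rcases Nat.eq_zero_or_pos j with rfl | hj0
    · exact (adj_zero s).1 ha
    rw [← FiFour.word_singleton, act_word]
    refine fix_of_not_movedB netValid (lt_of_lt_of_le hs.1 (by rw [numPts_eq]; norm_num)) ?_
    have hL : (Nat.lor (movedB 19 FiFour.net [11]) (movedB 19 FiFour.net (seqW zSeq))).testBit s = false := by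
      refine testBit_lor_false.2 ⟨not_movedB netValid ?_, not_movedB netValid ?_⟩
      · rw [← act_word, FiFour.word_singleton]; exact (adj_zero s).1 ha
      · rw [← act_word]; exact hs.2
    interval_cases j
    · rw [show baseLetter 1 = 0 from rfl]; exact sub_bit pos_a hL
    · rw [show baseLetter 2 = 2 from rfl]; exact sub_bit pos_c hL
    · rw [show baseLetter 3 = 4 from rfl]; exact sub_bit pos_e hL

/-- The quadruple of a point by the labels. -/
theorem fib_iff {i k : ℕ} (hi : i < 504) (hk : k < 504) : Fib (pnt i) (pnt k) ↔ i / 4 = k / 4 := by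
  have hb0 : pnt (4 * tBase) = 0 := basePt_zero
  have hb : 4 * tBase < 504 := (base_idx (j := 0) (by omega)).1
  have h0 : OnFix 0 := hb0 ▸ onFix_pnt hb
  -- first for the base quadruple
  have base : ∀ j < 4, ∀ m < 504, Fib (pnt (4 * tBase + j)) (pnt m) ↔ m / 4 = tBase := by
    intro j hj m hm
    have h2 := forallFrom_elim swaps_ok (Nat.zero_le j) (by omega)
    simp only [Bool.and_eq_true, Nat.beq_eq] at h2
    obtain ⟨e1, hf, hkeep⟩ := h2
    set g := elt (swaps.getD j [])
    have hg : g ∈ Cz := elt_mem (fits_of_all hf)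
    have hj4 := (base_idx hj).1
    obtain ⟨-, a1⟩ := act_elt (fits_of_all hf) (i := 4 * tBase) (by rw [e1]; exact hj4.trans_le le_numP)
    rw [e1, hb0] at a1
    have img : ∀ k < 4, ∃ l < 4, act g (pnt (4 * tBase + k)) = pnt (4 * tBase + l) := fun k hk4 => by
      have hkk := Nat.eq_of_beq_eq_true (forallFrom_elim hkeep (Nat.zero_le k) (by omega))
      have hlt : evS (swaps.getD j []) (4 * tBase + k) < 504 := by omega
      obtain ⟨-, a⟩ := act_elt (fits_of_all hf) (i := 4 * tBase + k) (hlt.trans_le le_numP)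
      exact ⟨evS (swaps.getD j []) (4 * tBase + k) % 4, by omega, by rw [a]; congr 1; omega⟩
    rw [← a1]
    obtain ⟨m', hm', e'⟩ := exists_idx (onFix_map (inv_mem hg) (onFix_pnt hm))
    have e'' : act g (pnt m') = pnt m := by
      rw [e', ← Equiv.Perm.mul_apply, ← map_mul, mul_inv_cancel, map_one]; rfl
    rw [← e'', fib_map hg h0, fib_zero hm']
    choose f hf4 hfe using fun k : Fin 4 => img k k.2
    have finj : Function.Injective fun k : Fin 4 => (⟨f k, hf4 k⟩ : Fin 4) := fun a b h => Fin.ext (by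
      have := (act g).injective ((hfe a).trans ((congrArg (fun x : Fin 4 => pnt (4 * tBase + (x : ℕ))) h).trans (hfe b).symm))
      have := pnt_inj (base_idx a.2).1 (base_idx b.2).1 this
      omega)
    constructor
    · intro h
      obtain ⟨l, hl, e⟩ := img (m' % 4) (Nat.mod_lt _ (by omega))
      rw [show 4 * tBase + m' % 4 = m' by omega, e''] at e
      have := pnt_inj hm (base_idx hl).1 e
      omega
    · intro h
      obtain ⟨k, hk'⟩ := (Finite.injective_iff_surjective.1 finj) ⟨m % 4, Nat.mod_lt _ (by omega)⟩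
      have hk2 : f k = m % 4 := congrArg Fin.val hk'
      have h3 := hfe k
      rw [hk2, show 4 * tBase + m % 4 = m by omega, ← e''] at h3
      have := pnt_inj (base_idx k.2).1 hm' ((act g).injective h3)
      omega
  obtain ⟨t, j, hj, rfl⟩ : ∃ t j, j < 4 ∧ i = 4 * t + j := ⟨i / 4, i % 4, by omega, by omega⟩
  have ht : t < 126 := by omega
  have h1 := forallFrom_elim tree_ok (Nat.zero_le t) (by omega)
  simp only [Bool.and_eq_true] at h1
  have hg := elt_mem (fits_of_all h1.1)
  set g := elt (tree.getD t [])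
  have img : ∀ l < 4, act g (pnt (4 * tBase + l)) = pnt (4 * t + l) := fun l hl => by
    have h := Nat.eq_of_beq_eq_true (forallFrom_elim h1.2 (Nat.zero_le l) (by omega))
    obtain ⟨-, a⟩ := act_elt (fits_of_all h1.1) (i := 4 * tBase + l) (by rw [h]; exact (show 4 * t + l < 504 by omega).trans_le le_numP)
    rwa [h] at a
  rw [← img j hj]
  obtain ⟨m, hm, e⟩ := exists_idx (onFix_map (inv_mem hg) (onFix_pnt hk))
  have e' : act g (pnt m) = pnt k := by rw [e, ← Equiv.Perm.mul_apply, ← map_mul, mul_inv_cancel, map_one]; rfl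
  rw [← e', fib_map hg (onFix_pnt (base_idx hj).1), base j hj m hm, show (4 * t + j) / 4 = t by omega]
  constructor
  · intro h
    have h' := img (m % 4) (Nat.mod_lt _ (by omega))
    rw [show 4 * tBase + m % 4 = m by omega, e'] at h'
    have := pnt_inj hk (show 4 * t + m % 4 < 504 by omega) h'
    omega
  · intro h
    have h' := img (k % 4) (Nat.mod_lt _ (by omega))
    rw [show 4 * t + k % 4 = k by omega, ← e'] at h'
    have := pnt_inj (base_idx (Nat.mod_lt k (show 4 > 0 by omega))).1 hm ((act g).injective h')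
    omega

/-! ### The action on the quadruples -/

theorem exists_label (g : Cz) (t : Fin 126) :
    ∃ t' : Fin 126, ∃ j < 4, act (g : G) (pnt (4 * (t : ℕ))) = pnt (4 * t' + j) := by
  obtain ⟨i, hi, e⟩ := exists_idx (onFix_map g.2 (onFix_pnt (show 4 * (t : ℕ) < 504 by omega)))
  exact ⟨⟨i / 4, by omega⟩, i % 4, by omega, by rw [← e]; congr 1; simp only; omega⟩

/-- The label of the image of a quadruple. -/
noncomputable def imgQ (g : Cz) (t : Fin 126) : Fin 126 := (exists_label g t).choose

/-- A point of a quadruple goes into the quadruple of the image label. -/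
theorem imgQ_spec (g : Cz) {i k : ℕ} (hi : i < 504) (hk : k < 504) (e : act (g : G) (pnt i) = pnt k) :
    (imgQ g ⟨i / 4, by omega⟩ : ℕ) = k / 4 := by
  obtain ⟨j, hj, e'⟩ := (exists_label g ⟨i / 4, by omega⟩).choose_spec
  have h := (fib_map g.2 (onFix_pnt (show 4 * (i / 4) < 504 by omega)) (q := pnt i)).2
    ((fib_iff (by omega) hi).2 (by omega))
  have hlt : 4 * (imgQ g ⟨i / 4, by omega⟩ : ℕ) + j < 504 := by omega
  rw [show act (g : G) (pnt (4 * (i / 4))) = pnt (4 * (imgQ g ⟨i / 4, by omega⟩ : ℕ) + j) from e', e,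
    fib_iff hlt hk] at h
  omega

theorem imgQ_one (t : Fin 126) : imgQ 1 t = t := by
  have h := imgQ_spec 1 (i := 4 * (t : ℕ)) (k := 4 * (t : ℕ)) (by omega) (by omega)
    (by rw [OneMemClass.coe_one, map_one]; rfl)
  simp only [Nat.mul_div_cancel_left _ (show 4 > 0 by omega)] at h
  exact Fin.ext h

theorem imgQ_mul (g h : Cz) (t : Fin 126) : imgQ (g * h) t = imgQ g (imgQ h t) := by
  obtain ⟨k, hk, e⟩ := exists_idx (onFix_map h.2 (onFix_pnt (show 4 * (t : ℕ) < 504 by omega)))
  obtain ⟨l, hl, e'⟩ := exists_idx (onFix_map g.2 (onFix_pnt hk))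
  have h1 := imgQ_spec h (i := 4 * (t : ℕ)) (by omega) hk e.symm
  have h2 := imgQ_spec g hk hl e'.symm
  have h3 := imgQ_spec (g * h) (i := 4 * (t : ℕ)) (k := l) (by omega) hl (by
    rw [Subgroup.coe_mul, map_mul, Equiv.Perm.mul_apply, ← e, ← e'])
  simp only [Nat.mul_div_cancel_left _ (show 4 > 0 by omega)] at h1 h3
  have e1 : imgQ h t = ⟨k / 4, by omega⟩ := Fin.ext h1
  rw [e1]
  exact Fin.ext (h3.trans h2.symm)

/-- The action on the quadruples. -/
noncomputable def psi : Cz →* Equiv.Perm (Fin 126) where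
  toFun g :=
    { toFun := imgQ g
      invFun := imgQ g⁻¹
      left_inv := fun t => by rw [← imgQ_mul, inv_mul_cancel, imgQ_one]
      right_inv := fun t => by rw [← imgQ_mul, mul_inv_cancel, imgQ_one] }
  map_one' := Equiv.ext imgQ_one
  map_mul' g h := Equiv.ext fun t => imgQ_mul g h t

theorem psi_spec (g : Cz) {i k : ℕ} (hi : i < 504) (hk : k < 504) (e : act (g : G) (pnt i) = pnt k) :
    (psi g ⟨i / 4, by omega⟩ : ℕ) = k / 4 := imgQ_spec g hi hk e

/-- The label by the tables. -/
theorem psi_elt {sq : List ℕ} (hf : Fits sq) (t : Fin 126) (h : Nat.blt (evS sq (4 * (t : ℕ))) 504 = true) :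
    (psi ⟨elt sq, elt_mem hf⟩ t : ℕ) = psiT sq t := by
  have hlt : evS sq (4 * (t : ℕ)) < 504 := Nat.le_of_ble_eq_true h
  obtain ⟨-, e⟩ := act_elt hf (hlt.trans_le le_numP)
  have h' := psi_spec ⟨elt sq, elt_mem hf⟩ (i := 4 * (t : ℕ)) (by omega) hlt e
  simp only [Nat.mul_div_cancel_left _ (show 4 > 0 by omega)] at h'
  exact h'

end CfsgLib.Recog.FiFourQuad
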