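import Cfsg.Agent.Lib.Recog.FiFourQuad.Kernel
import Cfsg.Agent.Lib.ThreeTrans.LargeExtra
import Cfsg.Agent.Lib.LocalEvenB.CharP

set_option autoImplicit false
set_option maxRecDepth 100000
set_option linter.style.haveILetI false

/-!
The centraliser in the derived group: its generalised Fitting subgroup is the extraspecial group of order
`2 ^ 13`, with quotient an extension of three by PSU(4, 3) by two (owner: helper2).
-/

namespace CfsgLib.Recog.FiFourQuad

open Cfsg CfsgLib.Recog.FiFour CfsgLib.Recog.FiTypes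
open CfsgLib.ThreeTrans.CosetIndex (forallFrom forallFrom_elim)
open CfsgLib.Known.U43Mult (phi mgen Mdl ptPerm)
open CfsgLib.Recog.SporBound.Fi22Pair (Pairs hull hull_le_iff mem_hull)
open scoped commutatorElement

attribute [local instance] FiThree.finite_fi23' finite_fi24

local notation "G" => Cfsg.Spor.Fi24

theorem QQ_le_CL : QQ ≤ CL := QQ_le.trans NK_le

/-- The group of the pairs inside the centraliser. -/
noncomputable def QL : Subgroup CL := QQ.subgroupOf CL

theorem mem_QL {x : CL} : x ∈ QL ↔ (x : G) ∈ QQ := Subgroup.mem_subgroupOf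

theorem coe_mem_NK {x : CL} : (x : G) ∈ NK ↔ x ∈ psiL.ker := by
  refine ⟨fun h => ?_, fun h => ⟨x, h, rfl⟩⟩
  obtain ⟨_, hk⟩ := mem_NK.1 h
  exact MonoidHom.mem_ker.2 hk

theorem pow_four {x : G} (hx : x ∈ QQ) : x ^ (2 ^ 2) = 1 := by
  rw [show (2 : ℕ) ^ 2 = 2 * 2 by norm_num, pow_mul, pow_two, pow_two]
  exact (sq_QQ hx).2

instance QL_normal : QL.Normal := ⟨fun x hx g => by
  rw [mem_QL] at hx ⊢
  refine two_mem (coe_mem_NK.2 ((inferInstance : psiL.ker.Normal).conj_mem x (coe_mem_NK.1 (QQ_le hx)) g))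
    (k := 2) ?_
  have h : (g * x * g⁻¹) ^ (2 ^ 2) = 1 := by
    rw [conj_pow, show x ^ (2 ^ 2) = 1 from Subtype.ext (pow_four hx), mul_one, mul_inv_cancel]
  exact congrArg Subtype.val h⟩

theorem card_QL : Nat.card QL = 8192 := by
  rw [QL, Nat.card_congr (Subgroup.subgroupOfEquivOfLe QQ_le_CL).toEquiv, cards.1]

/-- The simple group inside the image. -/
noncomputable def imgS : Subgroup psiL.range := simpleImage.subgroupOf psiL.range

theorem index_imgS : imgS.index = 2 := by
  have h := imgS.card_mul_index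
  rw [show Nat.card imgS = 3265920 from
    (Nat.card_congr (Subgroup.subgroupOfEquivOfLe image_le).toEquiv).trans card_image, cards.2.2.1] at h
  omega

instance imgS_normal : imgS.Normal := Subgroup.normal_of_index_eq_two index_imgS

theorem imgS_simple : IsSimpleGroup imgS := by
  haveI := image_simple
  exact MulEquiv.isSimpleGroup (Subgroup.subgroupOfEquivOfLe image_le)

theorem dichotomy (M : Subgroup psiL.range) [hM : M.Normal] : M = ⊥ ∨ imgS ≤ M := by
  haveI := imgS_simple
  rcases (inferInstance : (M.subgroupOf imgS).Normal).eq_bot_or_eq_top with h | h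
  · refine Or.inl ((Subgroup.eq_bot_iff_forall _).2 fun m hm => Subtype.ext ?_)
    have hc : ∀ s : psiL.range, s ∈ imgS → Commute (m : Equiv.Perm (Fin 126)) s := fun s hs => by
      have h1 : m * s * m⁻¹ * s⁻¹ ∈ imgS := mul_mem (imgS_normal.conj_mem _ hs m) (inv_mem hs)
      have h2 : m * s * m⁻¹ * s⁻¹ ∈ M := by
        rw [show m * s * m⁻¹ * s⁻¹ = m * (s * m⁻¹ * s⁻¹) by group]
        exact mul_mem hm (hM.conj_mem _ (inv_mem hm) s)
      have h3 : (⟨_, h1⟩ : imgS) ∈ M.subgroupOf imgS := Subgroup.mem_subgroupOf.2 h2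
      rw [h, Subgroup.mem_bot] at h3
      have h4 : m * s * m⁻¹ * s⁻¹ = 1 := congrArg Subtype.val h3
      exact congrArg Subtype.val (mul_inv_eq_iff_eq_mul.1 (mul_inv_eq_one.1 h4))
    exact eq_one_of_commute (hc ⟨_, image_le ⟨mgen 0, rfl⟩⟩ ⟨mgen 0, rfl⟩)
      (hc ⟨_, image_le ⟨mgen 1, rfl⟩⟩ ⟨mgen 1, rfl⟩)
  · exact Or.inr (Subgroup.subgroupOf_eq_top.1 h)

theorem pCore_CL : Cfsg.pCore 2 CL = QL := by
  haveI : Fact (Nat.Prime 2) := ⟨Nat.prime_two⟩
  refine le_antisymm (fun x hx => ?_) (CfsgLib.Core.le_pCore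
    (QQ_two.of_equiv (Subgroup.subgroupOfEquivOfLe QQ_le_CL).symm))
  obtain ⟨k, hk⟩ := CfsgLib.Core.isPGroup_pCore 2 CL ⟨x, hx⟩
  set M := (Cfsg.pCore 2 CL).map psiL.rangeRestrict
  haveI : M.Normal := (CfsgLib.Core.normal_pCore 2 CL).map _ psiL.rangeRestrict_surjective
  rcases dichotomy M with h | h
  · refine mem_QL.2 (two_mem (coe_mem_NK.2 (MonoidHom.mem_ker.2 ?_)) (k := k)
      (congrArg (fun y : Cfsg.pCore 2 CL => ((y : CL) : G)) hk))
    have hm : psiL.rangeRestrict x ∈ M := ⟨x, hx, rfl⟩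
    rw [h, Subgroup.mem_bot] at hm
    exact congrArg Subtype.val hm
  · exfalso
    obtain ⟨j, hj⟩ := IsPGroup.iff_card.1 (((CfsgLib.Core.isPGroup_pCore 2 CL).map psiL.rangeRestrict).to_le h)
    rw [show Nat.card imgS = 3265920 from
      (Nat.card_congr (Subgroup.subgroupOfEquivOfLe image_le).toEquiv).trans card_image] at hj
    have h3 : 3 ∣ 2 := Nat.prime_three.dvd_of_dvd_pow (show 3 ∣ 2 ^ j by rw [← hj]; norm_num)
    norm_num at h3

theorem zpow_cases {c : G} (hc : c ∈ Subgroup.zpowers zE) : c = 1 ∨ c = zE := by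
  obtain ⟨k, rfl⟩ := hc
  show zE ^ k = 1 ∨ zE ^ k = zE
  rcases Int.even_or_odd' k with ⟨m, rfl | rfl⟩
  · left; rw [zpow_mul, zpow_two, zE_sq, one_zpow]
  · right; rw [zpow_add, zpow_mul, zpow_two, zE_sq, one_zpow, one_mul, zpow_one]

theorem ncSeq_fits {k : ℕ} (hk : k < 5) : Fits (ncSeq.getD k []) := by
  have fa := (seq_ok (sq := aSeq) (by simp)).1
  have fo := (seq_ok (sq := oSeq) (by simp)).1
  interval_cases k
  exacts [fa, fits_append fa fo, fits_append (fits_append fa fo) fo, fo, fits_append fo fo]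

/-- Each of the five moves one of the twelve, also modulo the product. -/
theorem nc {k : ℕ} (hk : k < 5) : ∃ i < 12, ∀ c ∈ Subgroup.zpowers zE,
    elt (ncSeq.getD k []) * qE i ≠ c * (qE i * elt (ncSeq.getD k [])) := by
  have h := forallFrom_elim nc_ok (Nat.zero_le k) (by omega)
  simp only [Bool.and_eq_true] at h
  obtain ⟨hi, -, -, h1, h2⟩ := h
  have hi' := Nat.le_of_ble_eq_true hi
  refine ⟨_, hi', fun c hc e => ?_⟩
  have fw := ncSeq_fits hk
  have fv := (seq_ok (qSeq_seq hi')).1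
  rcases zpow_cases hc with rfl | rfl
  · refine ne_of_differAt (fits_append fw fv) (fits_append fv fw) h1 ?_
    rw [elt_append, elt_append]
    rw [one_mul] at e
    exact e
  · refine ne_of_differAt (fits_append fw fv) (fits_append (fits_append fits_z fv) fw) h2 ?_
    rw [elt_append, elt_append, elt_append, mul_assoc]
    exact e

theorem qE_QQ {i : ℕ} (hi : i < 12) : qE i ∈ QQ := by
  obtain ⟨-, h⟩ := mem_hull zE qE (fun i => qE (i + 6)) 6
  rcases Nat.lt_or_ge i 6 with h6 | h6
  · exact (h i h6).1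
  · have := (h (i - 6) (by omega)).2
    rwa [show i - 6 + 6 = i by omega] at this

theorem zE_QQ : zE ∈ QQ := (mem_hull _ _ _ _).1

/-- A product of an element commuting with the twelve and one of the pairs commutes with them modulo the
product. -/
theorem not_nc {k : ℕ} (hk : k < 5) {x q : G} (hxC : x ∈ Cz) (hx : ∀ v ∈ QQ, Commute x v) (hq : q ∈ QQ)
    (e : elt (ncSeq.getD k []) = x * q) : False := by
  obtain ⟨i, hi, hne⟩ := nc hk
  obtain ⟨c, hc, hqv⟩ : ∃ c ∈ Subgroup.zpowers zE, q * qE i = c * (qE i * q) :=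
    ⟨⁅q, qE i⁆, (pairs.comm_sq q hq).2 _ (qE_QQ hi), by rw [commutatorElement_def]; group⟩
  refine hne c hc ?_
  have hcx : Commute x c := by
    obtain ⟨m, rfl⟩ := hc
    exact Commute.zpow_right (comm_z hxC) m
  rw [e, mul_assoc, hqv, ← mul_assoc x, hcx.eq, mul_assoc c, ← mul_assoc x, (hx _ (qE_QQ hi)).eq, mul_assoc]

theorem centralizer_QL : Subgroup.centralizer (QL : Set CL) ≤ QL := by
  intro x hx
  set H := Subgroup.centralizer (QL : Set CL)
  set M := H.map psiL.rangeRestrict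
  haveI : H.Normal := inferInstance
  haveI : M.Normal := (inferInstance : H.Normal).map _ psiL.rangeRestrict_surjective
  have hcomm : ∀ y ∈ H, ∀ v ∈ QQ, Commute (y : G) v := fun y hy v hv =>
    (congrArg Subtype.val (Subgroup.mem_centralizer_iff.1 hy ⟨v, QQ_le_CL hv⟩ (mem_QL.2 hv))).symm
  have hoo : (oE * oE) * oE = 1 := oE_cube
  rcases dichotomy M with h | h
  · have hm : psiL.rangeRestrict x ∈ M := ⟨x, hx, rfl⟩
    rw [h, Subgroup.mem_bot] at hm
    have hN : (x : G) ∈ NK := coe_mem_NK.2 (MonoidHom.mem_ker.2 (congrArg Subtype.val hm))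
    -- a product q w commuting with the twelve
    have key : ∀ k < 5, ∀ q ∈ QQ, (x : G) = q * elt (ncSeq.getD k []) → False := by
      intro k hk q hq e
      obtain ⟨i, hi, hne⟩ := nc hk
      refine hne ⁅q⁻¹, qE i⁆ ((pairs.comm_sq _ (inv_mem hq)).2 _ (qE_QQ hi)) ?_
      have hv := (hcomm x hx _ (qE_QQ hi)).eq
      rw [e, mul_assoc] at hv
      rw [eq_inv_mul_of_mul_eq hv, commutatorElement_def]
      group
    rcases coset_cases hN with hQ | ⟨q, hq, e⟩ | ⟨q, hq, e⟩
    · exact mem_QL.2 hQ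
    · exact (key 3 (by omega) q hq e).elim
    · exact (key 4 (by omega) q hq (e.trans (by rw [show ncSeq.getD 4 [] = oSeq ++ oSeq from rfl, elt_append]; rfl))).elim
  · exfalso
    obtain ⟨y, hy, e⟩ : psiL.rangeRestrict (eL aSeq (by simp)) ∈ M := h (show _ ∈ simpleImage from
      ⟨mgen 0, Eq.symm (Equiv.ext fun t => Fin.ext (by
        show (psiL (eL aSeq (by simp)) t : ℕ) = _
        rw [psiL_apply _ psi_a t]
        exact CfsgLib.Known.U43Mult.rep_mgen 0 (by omega) t))⟩)
    set a := eL aSeq (by simp)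
    have hk : (((y⁻¹ * a : CL)) : G) ∈ NK := coe_mem_NK.2 (MonoidHom.mem_ker.2 (by
      have e' : psiL y = psiL a := congrArg Subtype.val e
      rw [map_mul, map_inv, e', inv_mul_cancel]))
    have ha : elt aSeq = (y : G) * ((y⁻¹ * a : CL) : G) := by
      rw [← Subgroup.coe_mul, mul_inv_cancel_left]; rfl
    have hy' := hcomm y hy
    rcases coset_cases hk with hQ | ⟨q, hq, e'⟩ | ⟨q, hq, e'⟩
    · exact not_nc (k := 0) (by omega) (CL_le y.2) hy' hQ ha
    · rw [e'] at ha
      refine not_nc (k := 2) (by omega) (CL_le y.2) hy' hq ?_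
      show elt (aSeq ++ oSeq ++ oSeq) = _
      rw [elt_append, elt_append, ha]
      show (y : G) * (q * oE) * oE * oE = _
      simp only [mul_assoc]
      rw [← mul_assoc oE oE, hoo, mul_one]
    · rw [e'] at ha
      refine not_nc (k := 1) (by omega) (CL_le y.2) hy' hq ?_
      show elt (aSeq ++ oSeq) = _
      rw [elt_append, ha]
      show (y : G) * (q * (oE * oE)) * oE = _
      simp only [mul_assoc]
      rw [← mul_assoc oE oE, hoo, mul_one]

theorem gFitting_CL : Cfsg.generalizedFittingSubgroup CL = QL := by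
  haveI : Fact (Nat.Prime 2) := ⟨Nat.prime_two⟩
  rw [CfsgLib.LocalEvenB.gFitting_eq_pCore_iff.2 (by rw [pCore_CL]; exact centralizer_QL), pCore_CL]

theorem center_QQ : Subgroup.center QQ = (Subgroup.zpowers zE).subgroupOf QQ := by
  ext ⟨x, hx⟩
  rw [Subgroup.mem_center_iff, Subgroup.mem_subgroupOf]
  constructor
  · intro h
    refine pairs.mem_zpowers_of_commute hx fun i hi => ⟨?_, ?_⟩
    · exact (congrArg Subtype.val (h ⟨_, qE_QQ (by omega)⟩)).symm
    · exact (congrArg Subtype.val (h ⟨_, qE_QQ (show i + 6 < 12 by omega)⟩)).symm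
  · rintro ⟨k, rfl⟩ ⟨y, hy⟩
    exact Subtype.ext
      ((show Commute y zE from Subgroup.mem_centralizer_singleton_iff.1 (pairs.z_central hy)).zpow_right k).eq

theorem extraspecial_QL : Cfsg.IsExtraspecial 2 QL := by
  haveI : Fact (Nat.Prime 2) := ⟨Nat.prime_two⟩
  refine CfsgLib.ThreeTrans.isExtraspecial_congr ?_ (Subgroup.subgroupOfEquivOfLe QQ_le_CL).symm
  have hz : ∀ x : QQ, (x : G) ∈ Subgroup.zpowers zE → x ∈ Subgroup.center QQ := fun x hx => by
    rw [center_QQ, Subgroup.mem_subgroupOf]; exact hx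
  refine CfsgLib.PGroups.isExtraspecial_of QQ_two (fun h => ?_) ?_ ?_ fun x => hz _ ?_
  · refine pairs.not_commute (n := 5) ?_
    exact congrArg Subtype.val (h.is_comm.comm (⟨_, qE_QQ (i := 5) (by omega)⟩ : QQ) ⟨_, qE_QQ (i := 5 + 6) (by omega)⟩)
  · rw [center_QQ, Nat.card_congr (Subgroup.subgroupOfEquivOfLe ((Subgroup.zpowers_le).2 zE_QQ)).toEquiv,
      Nat.card_zpowers]
    exact orderOf_eq_prime (by rw [pow_two, zE_sq]) zE_ne
  · rw [commutator_def, Subgroup.commutator_le]
    exact fun x _ y _ => hz _ ((pairs.comm_sq x x.2).2 y y.2)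
  · simpa [pow_two] using (sq_QQ x.2).1

/-- The shape of the centraliser. -/
def HasQuadShape (A : Type*) [Group A] : Prop :=
  ∃ (Q : Subgroup A) (_ : Q.Normal), Cfsg.generalizedFittingSubgroup A = Q ∧ Cfsg.IsExtraspecial 2 ↥Q ∧
    Nat.card Q = 2 ^ 13 ∧ ∃ (N M : Subgroup A) (_ : N.Normal) (_ : M.Normal), Q ≤ N ∧ N ≤ M ∧
      Nat.card N = 3 * Nat.card Q ∧ (∃ (K : Type) (_ : Field K) (_ : Fintype K), Fintype.card K = 9 ∧
        Nonempty (↥M ⧸ N.subgroupOf M ≃* Cfsg.PSU 4 K 3)) ∧ M.index = 2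

theorem shape_CL : HasQuadShape CL := by
  refine ⟨QL, QL_normal, gFitting_CL, extraspecial_QL, by rw [card_QL]; norm_num, psiL.ker,
    simpleImage.comap psiL, inferInstance, ?_, fun x hx => coe_mem_NK.1 (QQ_le (mem_QL.1 hx)),
    Subgroup.ker_le_comap psiL simpleImage, ?_, ?_, ?_⟩
  · exact Subgroup.normal_of_index_eq_two (by rw [Subgroup.index_comap]; exact index_imgS)
  · rw [card_QL, ← show Nat.card NK = Nat.card psiL.ker from Subgroup.card_subtype _ _, cards.2.1]
  · haveI : Fintype (GaloisField 3 2) := Fintype.ofFinite _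
    have hK : Fintype.card (GaloisField 3 2) = 9 := by
      rw [Fintype.card_eq_nat_card, GaloisField.card 3 2 (by norm_num)]; rfl
    refine ⟨GaloisField 3 2, inferInstance, inferInstance, hK, ?_⟩
    obtain ⟨e1⟩ := image_equiv
    obtain ⟨e2⟩ := CfsgLib.Known.U43Mult.nonempty_equiv hK
    let f : simpleImage.comap psiL →* simpleImage :=
      (psiL.comp (simpleImage.comap psiL).subtype).codRestrict simpleImage fun x => x.2
    have hf : Function.Surjective f := fun ⟨p, hp⟩ => by
      obtain ⟨x, rfl⟩ := image_le hp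
      exact ⟨⟨x, hp⟩, rfl⟩
    have hker : f.ker = psiL.ker.subgroupOf (simpleImage.comap psiL) := by
      ext x
      rw [MonoidHom.mem_ker, Subgroup.mem_subgroupOf, MonoidHom.mem_ker]
      exact ⟨fun h => congrArg Subtype.val h, fun h => Subtype.ext h⟩
    exact ⟨(QuotientGroup.quotientMulEquivOfEq hker.symm).trans
      ((QuotientGroup.quotientKerEquivOfSurjective f hf).trans (e1.symm.trans e2))⟩
  · rw [Subgroup.index_comap]; exact index_imgS

end CfsgLib.Recog.FiFourQuad
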