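import Cfsg.Agent.Lib.Recog.FiFourQuad.Data
import Cfsg.Agent.Lib.Recog.FiFour.Nets
import Cfsg.Agent.Lib.ThreeTrans.CosetIndex.Presented
import Cfsg.Agent.Lib.Schur.PermChain

set_option autoImplicit false
set_option maxRecDepth 100000

/-!
The tables of the centraliser of a product of four commuting transpositions and the Boolean checks on them
(owner: helper2).
-/

namespace CfsgLib.Recog.FiFourQuad

open CfsgLib.Recog.BitPerm CfsgLib.Recog.FiTypes
open CfsgLib.ThreeTrans.CosetIndex (forallFrom forallFrom_elim)

/-- A point. -/
noncomputable def pnt (i : ℕ) : ℕ := cell 19 pData i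

/-- The image of a place under a generator; `numP` stands for unknown. -/
noncomputable def sig (g i : ℕ) : ℕ := cond (Nat.blt i numP) (cell 11 (sData.getD g 0) i) numP

/-- The image of a place under a sequence of generators. -/
noncomputable def evS (sq : List ℕ) (i : ℕ) : ℕ :=
  List.rec (motive := fun _ => ℕ) i (fun g _ ih => sig g ih) sq

/-- The letters of a sequence. -/
def seqW (sq : List ℕ) : List ℕ := sq.flatMap fun g => gW.getD g []

/-- The place of a letter. -/
def lpi (x : ℕ) : ℕ := lIdx.getD x 0

/-- The table of a generator agrees with its network on the known places. -/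
noncomputable def sigOK (g : ℕ) : Bool :=
  forallFrom (fun r => (fun X => forallFrom (fun i =>
    Nat.beq (sig g i) numP || (Nat.blt (sig g i) numP && (X.testBit (pnt i) == (pnt (sig g i)).testBit r))) 0 numP)
      (runWord FiFour.net (gW.getD g []) (plane r 19))) 0 19

/-- Two sequences send a place to the same known point. -/
noncomputable def agreeAt (s t : List ℕ) (i : ℕ) : Bool :=
  Nat.blt (evS s i) numP && (Nat.blt (evS t i) numP && Nat.beq (pnt (evS s i)) (pnt (evS t i)))

/-- Two sequences send a place to different known points. -/
noncomputable def differAt (s t : List ℕ) (i : ℕ) : Bool :=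
  Nat.blt (evS s i) numP && (Nat.blt (evS t i) numP && !Nat.beq (pnt (evS s i)) (pnt (evS t i)))

/-- Two sequences agree on the points of the letters. -/
noncomputable def sameSeq (s t : List ℕ) : Bool := forallFrom (fun x => agreeAt s t (lpi x)) 0 12

/-- The label of the image of a quadruple. -/
noncomputable def psiT (sq : List ℕ) (t : ℕ) : ℕ := evS sq (4 * t) / 4

/-- A sequence sends every quadruple to the one given. -/
noncomputable def psiOK (sq : List ℕ) (f : ℕ → ℕ) : Bool :=
  forallFrom (fun t => Nat.blt (evS sq (4 * t)) 504 && Nat.beq (psiT sq t) (f t)) 0 126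

/-- The twelve hyperbolic elements. -/
def qSeq : List (List ℕ) := uSeq ++ vSeq

/-- The five elements shown not to centralise. -/
def ncSeq : List (List ℕ) := [aSeq, aSeq ++ oSeq, aSeq ++ oSeq ++ oSeq, oSeq, oSeq ++ oSeq]

end CfsgLib.Recog.FiFourQuad
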