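import Cfsg.Agent.Lib.Recog.FiFourQuad.Structure
import Cfsg.Agent.Lib.Components.FStar

set_option autoImplicit false
set_option linter.style.haveILetI false

/-!
The shape carried along an isomorphism, and the centraliser of the product as the image of the standard one
(owner: helper2).
-/

namespace CfsgLib.Recog.FiFourQuad

open Cfsg CfsgLib.Recog.FiFour CfsgLib.Recog.FiTypes

attribute [local instance] FiThree.finite_fi23' finite_fi24

theorem shape_congr {A B : Type*} [Group A] [Group B] [Finite A] (e : A ≃* B) (h : HasQuadShape A) :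
    HasQuadShape B := by
  haveI : Fact (Nat.Prime 2) := ⟨Nat.prime_two⟩
  obtain ⟨Q, hQn, hQ, hQe, hQc, N, M, hN, hM, hQN, hNM, hNc, ⟨K, iK, iF, hK, ⟨ψ⟩⟩, hMi⟩ := h
  have hcard : ∀ H : Subgroup A, Nat.card (H.map e.toMonoidHom) = Nat.card H := fun H =>
    (Nat.card_congr (H.equivMapOfInjective e.toMonoidHom e.injective).toEquiv).symm
  refine ⟨Q.map e.toMonoidHom, hQn.map _ e.surjective, ?_,
    CfsgLib.ThreeTrans.isExtraspecial_congr hQe (Q.equivMapOfInjective e.toMonoidHom e.injective),
    (hcard Q).trans hQc, N.map e.toMonoidHom, M.map e.toMonoidHom, hN.map _ e.surjective, hM.map _ e.surjective,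
    Subgroup.map_mono hQN, Subgroup.map_mono hNM, by rw [hcard, hcard]; exact hNc, ⟨K, iK, iF, hK, ?_⟩, ?_⟩
  · rw [← hQ]; exact (CfsgLib.Components.gFitting_map_equiv e).symm
  · haveI : (N.map e.toMonoidHom).Normal := hN.map _ e.surjective
    refine ⟨(QuotientGroup.congr (N.subgroupOf M) ((N.map e.toMonoidHom).subgroupOf (M.map e.toMonoidHom))
      (M.equivMapOfInjective e.toMonoidHom e.injective) ?_).symm.trans ψ⟩
    ext x
    rw [Subgroup.mem_map, Subgroup.mem_subgroupOf, Subgroup.mem_map]
    constructor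
    · rintro ⟨y, hy, rfl⟩; exact ⟨_, Subgroup.mem_subgroupOf.1 hy, rfl⟩
    · rintro ⟨y, hy, hyx⟩
      exact ⟨⟨y, hNM hy⟩, Subgroup.mem_subgroupOf.2 hy, Subtype.ext hyx⟩
  · rw [← hMi, Subgroup.index_map_of_bijective e.bijective]

theorem zE_eq : zE = gg 11 * gg 0 * gg 2 * gg 4 := by
  rw [zE, elt]
  simp [seqW, zSeq, gW, FiFour.word, mul_assoc]

/-- The centraliser in the derived group of a product of four commuting transpositions. -/
theorem shape_of_quad {G : Type*} [Group G] {D : Set G} (e : Spor.Fi24 ≃* G) (he : e '' D24 = D) {a b c d : G}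
    (hnd : [a, b, c, d].Nodup) (hD : ∀ x ∈ [a, b, c, d], x ∈ D)
    (hc : ∀ x ∈ [a, b, c, d], ∀ y ∈ [a, b, c, d], Commute x y) {C : Subgroup G}
    (hC : C = commutator G ⊓ Subgroup.centralizer ({a * b * c * d} : Set G)) : HasQuadShape C := by
  let v : Fin 4 → G := fun j => [a, b, c, d].get j
  have hv : ∀ j, v j ∈ [a, b, c, d] := fun j => List.get_mem _ _
  obtain ⟨g, hg⟩ := quad_conj (d := fun j => e.symm (v j))
    (fun j => by
      obtain ⟨x, hx, hxe⟩ : v j ∈ e '' D24 := by rw [he]; exact hD _ (hv j)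
      rw [← hxe, MulEquiv.symm_apply_apply]; exact hx)
    (fun i j => (hc _ (hv i) _ (hv j)).map e.symm.toMonoidHom)
    (e.symm.injective.comp (List.nodup_iff_injective_get.1 hnd))
  let f : Spor.Fi24 ≃* G := (MulAut.conj g⁻¹).trans e
  have hf : ∀ j : Fin 4, f (gg (baseLetter j)) = v j := fun j => by
    show e (g⁻¹ * gg (baseLetter j) * g⁻¹⁻¹) = v j
    rw [← hg j, show g⁻¹ * (g * e.symm (v j) * g⁻¹) * g⁻¹⁻¹ = e.symm (v j) by group, MulEquiv.apply_symm_apply]
  have hz : f zE = a * b * c * d := by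
    have h0 : f (gg 11) = a := hf 0
    have h1 : f (gg 0) = b := hf 1
    have h2 : f (gg 2) = c := hf 2
    have h3 : f (gg 4) = d := hf 3
    rw [zE_eq, map_mul, map_mul, map_mul, h0, h1, h2, h3]
  have hder : commutator G = parity.ker.map f.toMonoidHom := by
    rw [← derived_eq, commutator_def, commutator_def, Subgroup.map_commutator,
      Subgroup.map_top_of_surjective _ f.surjective]
  have hCL : CL.map f.toMonoidHom = C := by
    rw [hC, hder, CL, Subgroup.map_inf _ _ _ f.injective]
    congr 1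
    ext x
    obtain ⟨y, rfl⟩ := f.surjective x
    rw [← hz, Subgroup.mem_centralizer_singleton_iff, ← map_mul, ← map_mul, f.injective.eq_iff]
    exact (Subgroup.mem_map_iff_mem f.injective).trans Subgroup.mem_centralizer_singleton_iff
  exact shape_congr ((CL.equivMapOfInjective f.toMonoidHom f.injective).trans (MulEquiv.subgroupCongr hCL)) shape_CL

end CfsgLib.Recog.FiFourQuad
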